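import Mathlib
import Cfsg.Prelude.Def_LieExceptional

/-!
# A `(B, N)`-pair on the subgroup generated by `B` and `N` (helper19, generic)

The axioms of a `(B, N)`-pair, except `B ⊔ N = ⊤`, stated in an ambient group `Γ`, give a
`Cfsg.BNPair` on the subgroup `B ⊔ N`.
-/

set_option autoImplicit false

namespace Cfsg.Agent.Helper19.OpBN

open DoubleCoset

/-- the axioms of a `(B, N)`-pair except for `B ⊔ N = ⊤` -/
structure BNData (Γ : Type*) [Group Γ] where
  B : Subgroup Γ
  N : Subgroup Γ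
  S : Set Γ
  conj_mem : ∀ n ∈ N, ∀ t ∈ B ⊓ N, n * t * n⁻¹ ∈ B
  subset : S ⊆ (N : Set Γ)
  sq_mem : ∀ s ∈ S, s * s ∈ B
  inj : ∀ s ∈ S, ∀ s' ∈ S, s⁻¹ * s' ∈ B → s = s'
  closure_sup : Subgroup.closure S ⊔ (B ⊓ N) = N
  mul_mem_union : ∀ s ∈ S, ∀ n ∈ N, ∀ b ∈ B,
    s * b * n ∈ DoubleCoset.doubleCoset (s * n) (B : Set Γ) B ∪ DoubleCoset.doubleCoset n (B : Set Γ) B
  conj_ne : ∀ s ∈ S, (fun b : Γ => s * b * s) '' (B : Set Γ) ≠ (B : Set Γ)

variable {Γ : Type*} [Group Γ] (D : BNData Γ)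

/-- the subgroup generated by `B` and `N` -/
def BNData.G : Subgroup Γ := D.B ⊔ D.N

theorem BNData.B_le : D.B ≤ D.G := le_sup_left
theorem BNData.N_le : D.N ≤ D.G := le_sup_right

theorem BNData.S_sub : D.S ⊆ (D.G : Set Γ) := fun _ hs => D.N_le (D.subset hs)

theorem mem_doubleCoset_subgroupOf {G : Subgroup Γ} {B : Subgroup Γ} (hB : B ≤ G) (x y : ↥G)
    (h : (x : Γ) ∈ DoubleCoset.doubleCoset (y : Γ) (B : Set Γ) B) :
    x ∈ DoubleCoset.doubleCoset y ((B.subgroupOf G : Subgroup ↥G) : Set ↥G) (B.subgroupOf G) := by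
  rw [DoubleCoset.mem_doubleCoset] at h ⊢
  obtain ⟨b, hb, b', hb', he⟩ := h
  exact ⟨⟨b, hB hb⟩, Subgroup.mem_subgroupOf.2 hb, ⟨b', hB hb'⟩, Subgroup.mem_subgroupOf.2 hb',
    Subtype.ext he⟩

/-- the `(B, N)`-pair on `B ⊔ N` -/
def BNData.toBNPair : Cfsg.BNPair ↥D.G where
  B := D.B.subgroupOf D.G
  N := D.N.subgroupOf D.G
  S := {s : ↥D.G | (s : Γ) ∈ D.S}
  sup_eq_top := by
    rw [← Subgroup.subgroupOf_sup D.B_le D.N_le]
    exact Subgroup.subgroupOf_self _
  conj_mem := by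
    intro n hn t ht
    rw [Subgroup.mem_subgroupOf] at hn ⊢
    rw [Subgroup.mem_inf, Subgroup.mem_subgroupOf, Subgroup.mem_subgroupOf] at ht
    exact D.conj_mem _ hn _ (Subgroup.mem_inf.2 ht)
  subset := fun s hs => Subgroup.mem_subgroupOf.2 (D.subset hs)
  sq_mem := fun s hs => Subgroup.mem_subgroupOf.2 (D.sq_mem _ hs)
  inj := fun s hs s' hs' h => Subtype.ext (D.inj _ hs _ hs' (Subgroup.mem_subgroupOf.1 h))
  closure_sup := by
    apply le_antisymm
    · rw [sup_le_iff, Subgroup.closure_le]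
      exact ⟨fun s hs => Subgroup.mem_subgroupOf.2 (D.subset hs), inf_le_right⟩
    · intro n hn
      rw [Subgroup.mem_subgroupOf] at hn
      have h1 : (n : Γ) ∈ Subgroup.closure D.S ⊔ (D.B ⊓ D.N) := by rw [D.closure_sup]; exact hn
      have key : ∀ x : Γ, x ∈ Subgroup.closure D.S ⊔ (D.B ⊓ D.N) → ∀ hx : x ∈ D.G,
          (⟨x, hx⟩ : ↥D.G) ∈ Subgroup.closure {s : ↥D.G | (s : Γ) ∈ D.S} ⊔
            (D.B.subgroupOf D.G ⊓ D.N.subgroupOf D.G) := by
        intro x hx
        rw [← Subgroup.closure_eq (D.B ⊓ D.N), ← Subgroup.closure_union] at hx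
        induction hx using Subgroup.closure_induction with
        | mem y hy =>
          intro hyG
          rcases hy with hy | hy
          · exact Subgroup.mem_sup_left (Subgroup.subset_closure hy)
          · apply Subgroup.mem_sup_right
            rw [Subgroup.mem_inf, Subgroup.mem_subgroupOf, Subgroup.mem_subgroupOf]
            exact Subgroup.mem_inf.1 hy
        | one => intro _; exact Subgroup.one_mem _
        | mul y z hy hz ihy ihz =>
          intro hyz
          have hyG : y ∈ D.G := by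
            exact (Subgroup.closure_le D.G).2
              (Set.union_subset D.S_sub (fun t ht => D.B_le (Subgroup.mem_inf.1 ht).1)) hy
          have hzG : z ∈ D.G := by
            exact (Subgroup.closure_le D.G).2
              (Set.union_subset D.S_sub (fun t ht => D.B_le (Subgroup.mem_inf.1 ht).1)) hz
          have e : (⟨y * z, hyz⟩ : ↥D.G) = ⟨y, hyG⟩ * ⟨z, hzG⟩ := rfl
          rw [e]
          exact Subgroup.mul_mem _ (ihy hyG) (ihz hzG)
        | inv y hy ihy =>
          intro hyi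
          have hyG : y ∈ D.G := by
            exact (Subgroup.closure_le D.G).2
              (Set.union_subset D.S_sub (fun t ht => D.B_le (Subgroup.mem_inf.1 ht).1)) hy
          have e : (⟨y⁻¹, hyi⟩ : ↥D.G) = (⟨y, hyG⟩ : ↥D.G)⁻¹ := rfl
          rw [e]
          exact Subgroup.inv_mem _ (ihy hyG)
      exact key n h1 n.2
  mul_mem_union := by
    intro s hs n hn b hb
    rcases D.mul_mem_union _ hs _ (Subgroup.mem_subgroupOf.1 hn) _ (Subgroup.mem_subgroupOf.1 hb)
      with h | h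
    · left
      exact mem_doubleCoset_subgroupOf D.B_le (s * b * n) (s * n) h
    · right
      exact mem_doubleCoset_subgroupOf D.B_le (s * b * n) n h
  conj_ne := by
    intro s hs heq
    apply D.conj_ne _ hs
    ext x
    constructor
    · rintro ⟨b, hb, rfl⟩
      have hb' : (⟨b, D.B_le hb⟩ : ↥D.G) ∈ D.B.subgroupOf D.G := Subgroup.mem_subgroupOf.2 hb
      have h1 : s * ⟨b, D.B_le hb⟩ * s ∈ ((D.B.subgroupOf D.G : Subgroup ↥D.G) : Set ↥D.G) := by
        rw [← heq]
        exact ⟨_, hb', rfl⟩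
      exact Subgroup.mem_subgroupOf.1 h1
    · intro hx
      have hxG : x ∈ D.G := D.B_le hx
      have h1 : (⟨x, hxG⟩ : ↥D.G) ∈ ((D.B.subgroupOf D.G : Subgroup ↥D.G) : Set ↥D.G) :=
        Subgroup.mem_subgroupOf.2 hx
      rw [← heq] at h1
      obtain ⟨b, hb, he⟩ := h1
      exact ⟨b, Subgroup.mem_subgroupOf.1 hb, congrArg Subtype.val he⟩

theorem BNData.toBNPair_B : D.toBNPair.B = D.B.subgroupOf D.G := rfl
theorem BNData.toBNPair_N : D.toBNPair.N = D.N.subgroupOf D.G := rfl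
theorem BNData.toBNPair_S : D.toBNPair.S = {s : ↥D.G | (s : Γ) ∈ D.S} := rfl

end Cfsg.Agent.Helper19.OpBN
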