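import Mathlib
import Cfsg.Prelude.Def_LieExceptional
import Cfsg.Prelude.Def_Classical

/-!
# The type `D_m` (B,N)-pair of the orthogonal group of the plus-type quadratic form: definitions
(helper19, for S2548; the layout follows helper5's `Cfsg.Agent.Helper5.SuBN.Defs`)

`F` a field (any characteristic), `m : ℕ`.  The quadratic form is `Qp m v = ∑ i : Fin m, v (lo i) * v (hi i)` on
`Fin (2 * m) → F`, where `lo i` is the position `i` and `hi i = Fin.rev (lo i)` the position `2m - 1 - i`; its
polar form is `Bp u v = ∑ a, u a * v (Fin.rev a)` (antidiagonal Gram matrix).  `OG m F` is the full isometry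
group (`Cfsg.isometryGroup F (Qp m)`), `Bsub` = upper triangular isometries, `Tsub` = diagonal ones, `Usub` =
upper unitriangular ones, `Mono` = monomial ones.
-/

set_option autoImplicit false

namespace Cfsg.Agent.Helper19.OpBN

open Matrix

variable {F : Type*} [Field F] {m : ℕ}

/-! ### positions -/

/-- the position `i` (first half) -/
def lo (i : Fin m) : Fin (2 * m) := ⟨i.val, by have := i.2; omega⟩

/-- the mirrored position `2m - 1 - i` (second half) -/
def hi (i : Fin m) : Fin (2 * m) := ⟨2 * m - 1 - i.val, by have := i.2; omega⟩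

theorem val_lo (i : Fin m) : (lo i).val = i.val := rfl
theorem val_hi (i : Fin m) : (hi i).val = 2 * m - 1 - i.val := rfl

theorem val_rev (a : Fin (2 * m)) : (Fin.rev a).val = 2 * m - 1 - a.val := by
  rw [Fin.val_rev]; omega

theorem rev_lo (i : Fin m) : Fin.rev (lo i) = hi i := by
  apply Fin.ext; rw [val_rev, val_lo, val_hi]

theorem rev_hi (i : Fin m) : Fin.rev (hi i) = lo i := by
  rw [← rev_lo, Fin.rev_rev]

theorem rev_ne (a : Fin (2 * m)) : Fin.rev a ≠ a := by
  intro h
  have h1 := congrArg Fin.val h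
  rw [val_rev] at h1
  have := a.2
  omega

theorem lo_ne_hi (i j : Fin m) : lo i ≠ hi j := by
  intro h
  have h1 := congrArg Fin.val h
  rw [val_lo, val_hi] at h1
  have := i.2
  have := j.2
  omega

theorem lo_injective : Function.Injective (lo : Fin m → Fin (2 * m)) := by
  intro i j h
  apply Fin.ext
  have := congrArg Fin.val h
  rwa [val_lo, val_lo] at this

theorem hi_injective : Function.Injective (hi : Fin m → Fin (2 * m)) := by
  intro i j h
  have h1 := congrArg Fin.rev h
  rw [rev_hi, rev_hi] at h1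
  exact lo_injective h1

/-- a sum over all positions splits into the sums over the two halves -/
theorem sum_split {M : Type*} [AddCommMonoid M] (f : Fin (2 * m) → M) :
    ∑ a, f a = ∑ i : Fin m, (f (lo i) + f (hi i)) := by
  classical
  rw [Finset.sum_add_distrib]
  have h1 : ∑ i : Fin m, f (lo i) = ∑ a ∈ Finset.univ.image (lo : Fin m → Fin (2 * m)), f a := by
    rw [Finset.sum_image (fun i _ j _ h => lo_injective h)]
  have h2 : ∑ i : Fin m, f (hi i) = ∑ a ∈ Finset.univ.image (hi : Fin m → Fin (2 * m)), f a := by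
    rw [Finset.sum_image (fun i _ j _ h => hi_injective h)]
  rw [h1, h2, ← Finset.sum_union]
  · apply Finset.sum_congr _ (fun _ _ => rfl)
    ext a
    simp only [Finset.mem_univ, Finset.mem_union, Finset.mem_image, true_and, true_iff]
    by_cases ha : a.val < m
    · exact Or.inl ⟨⟨a.val, ha⟩, Fin.ext rfl⟩
    · refine Or.inr ⟨⟨2 * m - 1 - a.val, by have := a.2; omega⟩, Fin.ext ?_⟩
      rw [val_hi]
      have := a.2
      show 2 * m - 1 - (2 * m - 1 - a.val) = a.val
      omega
  · rw [Finset.disjoint_left]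
    intro a ha hb
    obtain ⟨i, -, rfl⟩ := Finset.mem_image.1 ha
    obtain ⟨j, -, hj⟩ := Finset.mem_image.1 hb
    exact lo_ne_hi i j hj.symm

/-! ### the forms -/

/-- the plus-type quadratic form `∑_{i<m} v_i v_{2m-1-i}` -/
def Qp (m : ℕ) (v : Fin (2 * m) → F) : F := ∑ i : Fin m, v (lo i) * v (hi i)

/-- its polar form -/
def Bp (u v : Fin (2 * m) → F) : F := ∑ a, u a * v (Fin.rev a)

theorem Bp_eq (u v : Fin (2 * m) → F) :
    Bp u v = ∑ i : Fin m, (u (lo i) * v (hi i) + u (hi i) * v (lo i)) := by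
  unfold Bp
  rw [sum_split]
  apply Finset.sum_congr rfl
  intro i _
  rw [rev_lo, rev_hi]

theorem Qp_add (u v : Fin (2 * m) → F) : Qp m (u + v) = Qp m u + Qp m v + Bp u v := by
  rw [Bp_eq]
  unfold Qp
  rw [← Finset.sum_add_distrib, ← Finset.sum_add_distrib]
  apply Finset.sum_congr rfl
  intro i _
  simp only [Pi.add_apply]
  ring

theorem Bp_comm (u v : Fin (2 * m) → F) : Bp u v = Bp v u := by
  rw [Bp_eq, Bp_eq]
  apply Finset.sum_congr rfl
  intro i _
  ring

/-- the full isometry group of `Qp m` -/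
abbrev OG (m : ℕ) (F : Type*) [Field F] := ↥(Cfsg.isometryGroup F (Qp (F := F) m))

/-- the matrix of an element -/
abbrev mat (g : OG m F) : Matrix (Fin (2 * m)) (Fin (2 * m)) F := ((g.1 : GL (Fin (2 * m)) F) : Matrix _ _ F)

theorem mat_mul (g h : OG m F) : mat (g * h) = mat g * mat h := rfl

theorem mat_one : mat (1 : OG m F) = 1 := rfl

theorem mat_injective : Function.Injective (mat : OG m F → Matrix (Fin (2 * m)) (Fin (2 * m)) F) :=
  fun _ _ h => Subtype.ext (Units.ext h)

theorem inv_mul_mat (g : OG m F) : mat g⁻¹ * mat g = 1 := by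
  rw [← mat_mul, inv_mul_cancel, mat_one]

theorem mul_inv_mat (g : OG m F) : mat g * mat g⁻¹ = 1 := by
  rw [← mat_mul, mul_inv_cancel, mat_one]

theorem Qp_mulVec (g : OG m F) (v : Fin (2 * m) → F) : Qp m (mat g *ᵥ v) = Qp m v :=
  g.2 v v

theorem Bp_mulVec (g : OG m F) (u v : Fin (2 * m) → F) : Bp (mat g *ᵥ u) (mat g *ᵥ v) = Bp u v := by
  have h := Qp_mulVec g (u + v)
  rw [Matrix.mulVec_add, Qp_add, Qp_add, Qp_mulVec, Qp_mulVec] at h
  exact add_left_cancel h


/-! ### the matrix conditions -/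

theorem Qp_single (b : Fin (2 * m)) : Qp m (Pi.single b (1 : F)) = 0 := by
  unfold Qp
  apply Finset.sum_eq_zero
  intro i _
  by_cases h : lo i = b
  · have h2 : hi i ≠ b := fun h' => lo_ne_hi i i (h.trans h'.symm)
    rw [Pi.single_eq_of_ne h2, mul_zero]
  · rw [Pi.single_eq_of_ne h, zero_mul]

theorem Bp_single_single (b c : Fin (2 * m)) :
    Bp (Pi.single b (1 : F)) (Pi.single c 1) = if b = Fin.rev c then 1 else 0 := by
  unfold Bp
  by_cases h : b = Fin.rev c
  · rw [if_pos h, Finset.sum_eq_single b]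
    · rw [h, Fin.rev_rev]; simp
    · intro i _ hi
      rw [Pi.single_eq_of_ne hi, zero_mul]
    · intro hh; exact absurd (Finset.mem_univ _) hh
  · rw [if_neg h]
    apply Finset.sum_eq_zero
    intro i _
    by_cases hi : i = b
    · subst hi
      have : Fin.rev i ≠ c := fun h' => h (by rw [← h', Fin.rev_rev])
      rw [Pi.single_eq_of_ne this, mul_zero]
    · rw [Pi.single_eq_of_ne hi, zero_mul]

theorem Qp_mulVec_single (M : Matrix (Fin (2 * m)) (Fin (2 * m)) F) (b : Fin (2 * m)) :
    Qp m (M *ᵥ Pi.single b 1) = ∑ i : Fin m, M (lo i) b * M (hi i) b := by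
  unfold Qp
  apply Finset.sum_congr rfl
  intro i _
  simp [Matrix.mulVec_single]

theorem Bp_mulVec_single (M : Matrix (Fin (2 * m)) (Fin (2 * m)) F) (b c : Fin (2 * m)) :
    Bp (M *ᵥ Pi.single b 1) (M *ᵥ Pi.single c 1) = ∑ a, M a b * M (Fin.rev a) c := by
  unfold Bp
  apply Finset.sum_congr rfl
  intro i _
  simp [Matrix.mulVec_single]

/-- the matrix conditions cutting out the isometry group: the columns are singular vectors and their
polar products are those of the standard basis -/
def IsOJ (M : Matrix (Fin (2 * m)) (Fin (2 * m)) F) : Prop :=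
  (∀ b : Fin (2 * m), ∑ i : Fin m, M (lo i) b * M (hi i) b = 0) ∧
    ∀ b c : Fin (2 * m), ∑ a, M a b * M (Fin.rev a) c = if b = Fin.rev c then 1 else 0

/-- the columns of an isometry are singular -/
theorem q_col (g : OG m F) (b : Fin (2 * m)) : ∑ i : Fin m, mat g (lo i) b * mat g (hi i) b = 0 := by
  rw [← Qp_mulVec_single, Qp_mulVec, Qp_single]

/-- the polar products of the columns of an isometry -/
theorem rel_col (g : OG m F) (b c : Fin (2 * m)) :
    ∑ a, mat g a b * mat g (Fin.rev a) c = if b = Fin.rev c then 1 else 0 := by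
  rw [← Bp_mulVec_single, Bp_mulVec, Bp_single_single]

theorem isOJ_mat (g : OG m F) : IsOJ (mat g) := ⟨q_col g, rel_col g⟩


/-- an alternating matrix gives the zero quadratic form (any characteristic) -/
theorem sum_alt_eq_zero {ι : Type*} [Fintype ι] [DecidableEq ι] (v : ι → F) (D : ι → ι → F)
    (h0 : ∀ b, D b b = 0) (h1 : ∀ b c, D b c + D c b = 0) :
    ∑ b, ∑ c, v b * v c * D b c = 0 := by
  rw [← Finset.sum_product']
  apply Finset.sum_involution (fun x _ => (x.2, x.1))
  · rintro ⟨b, c⟩ _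
    show v b * v c * D b c + v c * v b * D c b = 0
    have := h1 b c
    linear_combination (v b * v c) * this
  · rintro ⟨b, c⟩ _ hne heq
    apply hne
    have hbc : c = b := congrArg Prod.fst heq
    subst hbc
    show v c * v c * D c c = 0
    rw [h0, mul_zero]
  · intro x _
    exact Finset.mem_univ _
  · rintro ⟨b, c⟩ _
    rfl

/-- the value of `Qp` on `M *ᵥ v` as a double sum -/
theorem Qp_mulVec_eq (M : Matrix (Fin (2 * m)) (Fin (2 * m)) F) (v : Fin (2 * m) → F) :
    Qp m (M *ᵥ v) = ∑ b, ∑ c, v b * v c * ∑ i : Fin m, M (lo i) b * M (hi i) c := by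
  unfold Qp
  have h : ∀ i : Fin m, (M *ᵥ v) (lo i) * (M *ᵥ v) (hi i) =
      ∑ b, ∑ c, v b * v c * (M (lo i) b * M (hi i) c) := by
    intro i
    simp only [Matrix.mulVec, dotProduct, Finset.sum_mul, Finset.mul_sum]
    rw [Finset.sum_comm]
    apply Finset.sum_congr rfl
    intro a _
    apply Finset.sum_congr rfl
    intro b _
    ring
  simp only [h, Finset.mul_sum]
  rw [Finset.sum_comm]
  apply Finset.sum_congr rfl
  intro a _
  rw [Finset.sum_comm]

/-- a matrix satisfying the conditions preserves `Qp` -/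
theorem Qp_mulVec_of_isOJ {M : Matrix (Fin (2 * m)) (Fin (2 * m)) F} (hM : IsOJ M)
    (v : Fin (2 * m) → F) : Qp m (M *ᵥ v) = Qp m v := by
  classical
  have h1 := Qp_mulVec_eq M v
  have h2 := Qp_mulVec_eq (1 : Matrix (Fin (2 * m)) (Fin (2 * m)) F) v
  rw [Matrix.one_mulVec] at h2
  rw [h1, h2, ← sub_eq_zero, ← Finset.sum_sub_distrib]
  have e0 : ∀ b : Fin (2 * m), ∑ c, v b * v c * ∑ i : Fin m, M (lo i) b * M (hi i) c -
      ∑ c, v b * v c * ∑ i : Fin m, (1 : Matrix (Fin (2 * m)) (Fin (2 * m)) F) (lo i) b *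
        (1 : Matrix (Fin (2 * m)) (Fin (2 * m)) F) (hi i) c =
      ∑ c, v b * v c * (∑ i : Fin m, M (lo i) b * M (hi i) c -
        ∑ i : Fin m, (1 : Matrix (Fin (2 * m)) (Fin (2 * m)) F) (lo i) b *
          (1 : Matrix (Fin (2 * m)) (Fin (2 * m)) F) (hi i) c) := by
    intro b
    rw [← Finset.sum_sub_distrib]
    apply Finset.sum_congr rfl
    intro c _
    rw [mul_sub]
  simp only [e0]
  apply sum_alt_eq_zero v
    (fun b c => ∑ i : Fin m, M (lo i) b * M (hi i) c -
      ∑ i : Fin m, (1 : Matrix (Fin (2 * m)) (Fin (2 * m)) F) (lo i) b *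
        (1 : Matrix (Fin (2 * m)) (Fin (2 * m)) F) (hi i) c)
  · intro b
    show ∑ i : Fin m, M (lo i) b * M (hi i) b -
      ∑ i : Fin m, (1 : Matrix (Fin (2 * m)) (Fin (2 * m)) F) (lo i) b *
        (1 : Matrix (Fin (2 * m)) (Fin (2 * m)) F) (hi i) b = 0
    rw [hM.1 b, zero_sub, neg_eq_zero]
    apply Finset.sum_eq_zero
    intro i _
    by_cases h : lo i = b
    · have h2 : hi i ≠ b := fun h' => lo_ne_hi i i (h.trans h'.symm)
      rw [Matrix.one_apply_ne h2, mul_zero]
    · rw [Matrix.one_apply_ne h, zero_mul]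
  · intro b c
    have key : ∀ N : Matrix (Fin (2 * m)) (Fin (2 * m)) F,
        ∑ i : Fin m, N (lo i) b * N (hi i) c + ∑ i : Fin m, N (lo i) c * N (hi i) b =
          ∑ a, N a b * N (Fin.rev a) c := by
      intro N
      rw [sum_split, ← Finset.sum_add_distrib]
      apply Finset.sum_congr rfl
      intro i _
      rw [rev_lo, rev_hi]
      ring
    have e1 := key M
    have e2 := key 1
    rw [hM.2] at e1
    have e3 : ∑ a, (1 : Matrix (Fin (2 * m)) (Fin (2 * m)) F) a b *
        (1 : Matrix (Fin (2 * m)) (Fin (2 * m)) F) (Fin.rev a) c = if b = Fin.rev c then 1 else 0 := by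
      rw [← Bp_mulVec_single, Matrix.one_mulVec, Matrix.one_mulVec, Bp_single_single]
    rw [e3] at e2
    show ∑ i : Fin m, M (lo i) b * M (hi i) c -
        ∑ i : Fin m, (1 : Matrix (Fin (2 * m)) (Fin (2 * m)) F) (lo i) b *
          (1 : Matrix (Fin (2 * m)) (Fin (2 * m)) F) (hi i) c +
      (∑ i : Fin m, M (lo i) c * M (hi i) b -
        ∑ i : Fin m, (1 : Matrix (Fin (2 * m)) (Fin (2 * m)) F) (lo i) c *
          (1 : Matrix (Fin (2 * m)) (Fin (2 * m)) F) (hi i) b) = 0
    linear_combination e1 - e2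

/-- a matrix satisfying the conditions has the expected left inverse -/
theorem inv_mul_of_isOJ {M : Matrix (Fin (2 * m)) (Fin (2 * m)) F} (hM : IsOJ M) :
    (Matrix.of fun a b => M (Fin.rev b) (Fin.rev a)) * M = 1 := by
  ext a c
  rw [Matrix.mul_apply]
  simp only [Matrix.of_apply]
  have h := hM.2 c (Fin.rev a)
  rw [Fin.rev_rev] at h
  have h4 : (if a = c then (1 : F) else 0) = if c = a then 1 else 0 := by
    by_cases hac : a = c
    · rw [if_pos hac, if_pos hac.symm]
    · rw [if_neg hac, if_neg (fun h' => hac h'.symm)]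
  rw [Matrix.one_apply, h4, ← h]
  apply Finset.sum_congr rfl
  intro i _
  rw [mul_comm]

/-- a matrix satisfying the conditions gives an element of the isometry group -/
theorem exists_of_isOJ {M : Matrix (Fin (2 * m)) (Fin (2 * m)) F} (hM : IsOJ M) :
    ∃ g : OG m F, mat g = M := by
  have h1 := inv_mul_of_isOJ hM
  have h2 : M * (Matrix.of fun a b => M (Fin.rev b) (Fin.rev a)) = 1 := by
    exact mul_eq_one_comm.mp h1
  refine ⟨⟨⟨M, Matrix.of fun a b => M (Fin.rev b) (Fin.rev a), h2, h1⟩, ?_⟩, rfl⟩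
  intro u _
  exact Qp_mulVec_of_isOJ hM u

/-- the entries of the inverse of an isometry -/
theorem inv_apply (g : OG m F) (a b : Fin (2 * m)) :
    mat g⁻¹ a b = mat g (Fin.rev b) (Fin.rev a) := by
  have hM := inv_mul_of_isOJ (isOJ_mat g)
  have h2 : mat g⁻¹ = Matrix.of fun a b => mat g (Fin.rev b) (Fin.rev a) := by
    have h3 : mat g⁻¹ = (Matrix.of fun a b => mat g (Fin.rev b) (Fin.rev a)) * (mat g * mat g⁻¹) := by
      rw [← Matrix.mul_assoc, hM, Matrix.one_mul]
    rw [h3, mul_inv_mat, Matrix.mul_one]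
  rw [h2]
  rfl

/-- the polar products of the rows of an isometry -/
theorem rel_row (g : OG m F) (a b : Fin (2 * m)) :
    ∑ j, mat g a j * mat g b (Fin.rev j) = if a = Fin.rev b then 1 else 0 := by
  have h := rel_col g⁻¹ (Fin.rev b) (Fin.rev a)
  rw [Fin.rev_rev] at h
  have h4 : (if Fin.rev b = a then (1 : F) else 0) = if a = Fin.rev b then 1 else 0 := by
    by_cases hab : a = Fin.rev b
    · rw [if_pos hab, if_pos hab.symm]
    · rw [if_neg hab, if_neg (fun h' => hab h'.symm)]
  rw [← h4, ← h]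
  apply Finset.sum_congr rfl
  intro i _
  rw [inv_apply, inv_apply, Fin.rev_rev, Fin.rev_rev, Fin.rev_rev, mul_comm]

/-- the rows of an isometry are singular -/
theorem q_row (g : OG m F) (a : Fin (2 * m)) : ∑ i : Fin m, mat g a (lo i) * mat g a (hi i) = 0 := by
  have h := q_col g⁻¹ (Fin.rev a)
  rw [← h]
  apply Finset.sum_congr rfl
  intro i _
  rw [inv_apply, inv_apply, Fin.rev_rev, rev_lo, rev_hi, mul_comm]


theorem mat_inv_eq (g : OG m F) : mat g⁻¹ = (mat g)⁻¹ := by
  rw [Matrix.inv_eq_left_inv (inv_mul_mat g)]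

theorem isUnit_det_mat (g : OG m F) : IsUnit (mat g).det := by
  have h := congrArg Matrix.det (mul_inv_mat g)
  rw [Matrix.det_mul, Matrix.det_one] at h
  exact IsUnit.of_mul_eq_one _ h

/-! ### the subgroups -/

/-- the Borel subgroup: upper triangular isometries -/
def Bsub (m : ℕ) (F : Type*) [Field F] : Subgroup (OG m F) where
  carrier := {g | BlockTriangular (mat g) (id : Fin (2 * m) → Fin (2 * m))}
  mul_mem' := fun {g h} hg hh => BlockTriangular.mul hg hh
  one_mem' := blockTriangular_one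
  inv_mem' := fun {g} hg => by
    show BlockTriangular (mat g⁻¹) id
    have : Invertible (mat g) := Matrix.invertibleOfIsUnitDet _ (isUnit_det_mat g)
    rw [mat_inv_eq]
    exact blockTriangular_inv_of_blockTriangular hg

theorem mem_Bsub_iff (g : OG m F) : g ∈ Bsub m F ↔ ∀ a b : Fin (2 * m), b < a → mat g a b = 0 :=
  ⟨fun h _ _ hab => h hab, fun h _ _ hab => h _ _ hab⟩

/-- the torus: diagonal isometries -/
def Tsub (m : ℕ) (F : Type*) [Field F] : Subgroup (OG m F) where
  carrier := {g | ∀ a b : Fin (2 * m), a ≠ b → mat g a b = 0}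
  mul_mem' := fun {g h} hg hh a b hab => by
    rw [mat_mul, Matrix.mul_apply]
    apply Finset.sum_eq_zero
    intro c _
    by_cases hac : a = c
    · subst hac
      rw [hh a b hab, mul_zero]
    · rw [hg a c hac, zero_mul]
  one_mem' := fun a b hab => Matrix.one_apply_ne hab
  inv_mem' := fun {g} hg a b hab => by
    rw [inv_apply, hg _ _ (fun h => hab (Fin.rev_injective h).symm)]

theorem mem_Tsub_iff (g : OG m F) : g ∈ Tsub m F ↔ ∀ a b : Fin (2 * m), a ≠ b → mat g a b = 0 := Iff.rfl

theorem Tsub_le_Bsub : Tsub m F ≤ Bsub m F := by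
  intro g hg
  rw [mem_Bsub_iff]
  intro a b hab
  exact hg a b (fun h => by rw [h] at hab; exact lt_irrefl _ hab)

/-- the monomial isometries: column `b` is supported in row `π b` for a permutation `π` -/
def Mono (m : ℕ) (F : Type*) [Field F] : Subgroup (OG m F) where
  carrier := {g | ∃ π : Equiv.Perm (Fin (2 * m)), ∀ a b : Fin (2 * m), a ≠ π b → mat g a b = 0}
  mul_mem' := by
    rintro g h ⟨π, hπ⟩ ⟨ρ, hρ⟩
    refine ⟨π * ρ, fun a b hab => ?_⟩
    rw [mat_mul, Matrix.mul_apply]
    apply Finset.sum_eq_zero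
    intro c _
    by_cases hc : c = ρ b
    · subst hc
      rw [hπ a (ρ b) hab, zero_mul]
    · rw [hρ c b hc, mul_zero]
  one_mem' := ⟨1, fun a b hab => Matrix.one_apply_ne hab⟩
  inv_mem' := by
    rintro g ⟨π, hπ⟩
    refine ⟨Fin.revPerm * π⁻¹ * Fin.revPerm, fun a c hac => ?_⟩
    rw [inv_apply, hπ]
    intro h
    apply hac
    simp only [Equiv.Perm.mul_apply, Fin.revPerm_apply]
    rw [h]
    simp

theorem mem_Mono_iff (g : OG m F) :
    g ∈ Mono m F ↔ ∃ π : Equiv.Perm (Fin (2 * m)), ∀ a b : Fin (2 * m), a ≠ π b → mat g a b = 0 :=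
  Iff.rfl

theorem Tsub_le_Mono : Tsub m F ≤ Mono m F := fun _ hg => ⟨1, fun a b hab => hg a b hab⟩

/-- the diagonal entries of an upper triangular isometry -/
theorem diag_mul_diag (g : OG m F) (hg : ∀ a b : Fin (2 * m), b < a → mat g a b = 0)
    (a : Fin (2 * m)) : mat g a a * mat g (Fin.rev a) (Fin.rev a) = 1 := by
  have h := rel_col g a (Fin.rev a)
  rw [Fin.rev_rev, if_pos rfl] at h
  rw [← h]
  symm
  apply Finset.sum_eq_single a
  · intro i _ hia
    rcases lt_or_gt_of_ne hia with hlt | hgt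
    · rw [hg (Fin.rev i) (Fin.rev a) (Fin.rev_lt_rev.2 hlt), mul_zero]
    · rw [hg i a hgt, zero_mul]
  · intro hh; exact absurd (Finset.mem_univ _) hh

theorem diag_ne_zero (g : OG m F) (hg : ∀ a b : Fin (2 * m), b < a → mat g a b = 0)
    (a : Fin (2 * m)) : mat g a a ≠ 0 := by
  intro h0
  have := diag_mul_diag g hg a
  rw [h0, zero_mul] at this
  exact zero_ne_one this

/-- the unipotent radical of `Bsub`: upper unitriangular isometries -/
def Usub (m : ℕ) (F : Type*) [Field F] : Subgroup (OG m F) where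
  carrier := {g | (∀ a b : Fin (2 * m), b < a → mat g a b = 0) ∧ ∀ a : Fin (2 * m), mat g a a = 1}
  mul_mem' := fun {g h} hg hh => by
    have hgh : g * h ∈ Bsub m F :=
      (Bsub m F).mul_mem ((mem_Bsub_iff g).2 hg.1) ((mem_Bsub_iff h).2 hh.1)
    refine ⟨(mem_Bsub_iff _).1 hgh, fun a => ?_⟩
    rw [mat_mul, Matrix.mul_apply, Finset.sum_eq_single a]
    · rw [hg.2, hh.2, mul_one]
    · intro c _ hca
      rcases lt_or_gt_of_ne hca with h | h
      · rw [hg.1 a c h, zero_mul]
      · rw [hh.1 c a h, mul_zero]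
    · intro h; exact absurd (Finset.mem_univ _) h
  one_mem' := ⟨fun a b hab => Matrix.one_apply_ne (ne_of_gt hab), fun a => Matrix.one_apply_eq a⟩
  inv_mem' := fun {g} hg => by
    have hB : g⁻¹ ∈ Bsub m F := (Bsub m F).inv_mem ((mem_Bsub_iff g).2 hg.1)
    refine ⟨(mem_Bsub_iff _).1 hB, fun a => ?_⟩
    rw [inv_apply, hg.2]

theorem mem_Usub_iff (g : OG m F) :
    g ∈ Usub m F ↔ (∀ a b : Fin (2 * m), b < a → mat g a b = 0) ∧ ∀ a : Fin (2 * m), mat g a a = 1 :=
  Iff.rfl

theorem Usub_le_Bsub : Usub m F ≤ Bsub m F := fun g hg => (mem_Bsub_iff g).2 hg.1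


/-- the entry `(m - 1, m)` of an upper triangular isometry vanishes -/
theorem mid_zero (g : OG m F) (hg : ∀ a b : Fin (2 * m), b < a → mat g a b = 0)
    (a : Fin (2 * m)) (ha : a.val + 1 = m) : mat g a (Fin.rev a) = 0 := by
  have h := q_row g a
  have hm : a.val < m := by omega
  rw [Finset.sum_eq_single (⟨a.val, hm⟩ : Fin m)] at h
  · have e1 : lo (⟨a.val, hm⟩ : Fin m) = a := Fin.ext rfl
    have e2 : hi (⟨a.val, hm⟩ : Fin m) = Fin.rev a := by rw [← rev_lo, e1]
    rw [e1, e2] at h
    rcases mul_eq_zero.1 h with h' | h'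
    · exact absurd h' (diag_ne_zero g hg a)
    · exact h'
  · intro i _ hi
    have hlt : lo i < a := by
      rw [Fin.lt_def, val_lo]
      have := i.2
      have : i.val ≠ a.val := fun h' => hi (Fin.ext h')
      omega
    rw [hg a (lo i) hlt, zero_mul]
  · intro hh; exact absurd (Finset.mem_univ _) hh

/-! ### permutation matrices -/

/-- the permutation matrix of `π`: `e_j ↦ e_{π j}` -/
def pMat (π : Equiv.Perm (Fin (2 * m))) : Matrix (Fin (2 * m)) (Fin (2 * m)) F :=
  Matrix.of fun i j => if i = π j then 1 else 0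

theorem pMat_apply (π : Equiv.Perm (Fin (2 * m))) (i j : Fin (2 * m)) :
    (pMat π : Matrix _ _ F) i j = if i = π j then 1 else 0 := rfl

theorem pMat_mulVec (π : Equiv.Perm (Fin (2 * m))) (v : Fin (2 * m) → F) (a : Fin (2 * m)) :
    ((pMat π : Matrix _ _ F) *ᵥ v) a = v (π⁻¹ a) := by
  simp only [Matrix.mulVec, dotProduct, pMat_apply]
  rw [Finset.sum_eq_single (π⁻¹ a)]
  · rw [if_pos (by simp), one_mul]
  · intro b _ hb
    rw [if_neg, zero_mul]
    intro h
    apply hb
    rw [h]
    simp
  · intro hh; exact absurd (Finset.mem_univ _) hh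

/-- the permutation matrix of a permutation commuting with the reversal is an isometry -/
theorem pMat_isOJ (π : Equiv.Perm (Fin (2 * m))) (hπ : ∀ a, π (Fin.rev a) = Fin.rev (π a)) :
    IsOJ (pMat π : Matrix _ _ F) := by
  constructor
  · intro b
    apply Finset.sum_eq_zero
    intro i _
    rw [pMat_apply, pMat_apply]
    by_cases h : lo i = π b
    · have h2 : hi i ≠ π b := fun h' => lo_ne_hi i i (h.trans h'.symm)
      rw [if_neg h2, mul_zero]
    · rw [if_neg h, zero_mul]
  · intro b c
    simp only [pMat_apply]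
    by_cases h : b = Fin.rev c
    · rw [if_pos h, Finset.sum_eq_single (π b)]
      · rw [if_pos rfl, if_pos (by rw [h, hπ, Fin.rev_rev]), mul_one]
      · intro a _ ha
        rw [if_neg ha, zero_mul]
      · intro hh; exact absurd (Finset.mem_univ _) hh
    · rw [if_neg h]
      apply Finset.sum_eq_zero
      intro a _
      by_cases ha : a = π b
      · rw [if_pos ha, one_mul, if_neg]
        intro h'
        apply h
        rw [ha, ← hπ] at h'
        rw [← π.injective h', Fin.rev_rev]
      · rw [if_neg ha, zero_mul]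

/-- the isometry with permutation matrix `pMat π` -/
noncomputable def pIso (π : Equiv.Perm (Fin (2 * m))) (hπ : ∀ a, π (Fin.rev a) = Fin.rev (π a)) :
    OG m F := Classical.choose (exists_of_isOJ (pMat_isOJ (F := F) π hπ))

theorem mat_pIso (π : Equiv.Perm (Fin (2 * m))) (hπ : ∀ a, π (Fin.rev a) = Fin.rev (π a)) :
    mat (pIso (F := F) π hπ) = pMat π :=
  Classical.choose_spec (exists_of_isOJ (pMat_isOJ (F := F) π hπ))

theorem pMat_mul (π ρ : Equiv.Perm (Fin (2 * m))) :
    (pMat π : Matrix _ _ F) * pMat ρ = pMat (π * ρ) := by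
  ext i j
  rw [Matrix.mul_apply, pMat_apply]
  simp only [pMat_apply]
  rw [Finset.sum_eq_single (ρ j)]
  · rw [if_pos rfl, mul_one]
    rfl
  · intro b _ hb
    rw [if_neg hb, mul_zero]
  · intro hh; exact absurd (Finset.mem_univ _) hh

theorem pMat_one : (pMat (1 : Equiv.Perm (Fin (2 * m))) : Matrix _ _ F) = 1 := by
  ext i j
  rw [pMat_apply, Matrix.one_apply]
  rfl

theorem pIso_mul (π ρ : Equiv.Perm (Fin (2 * m))) (hπ : ∀ a, π (Fin.rev a) = Fin.rev (π a))
    (hρ : ∀ a, ρ (Fin.rev a) = Fin.rev (ρ a)) (hπρ : ∀ a, (π * ρ) (Fin.rev a) = Fin.rev ((π * ρ) a)) :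
    pIso (F := F) π hπ * pIso ρ hρ = pIso (π * ρ) hπρ := by
  apply mat_injective
  rw [mat_mul, mat_pIso, mat_pIso, mat_pIso, pMat_mul]

theorem pIso_one (h1 : ∀ a, (1 : Equiv.Perm (Fin (2 * m))) (Fin.rev a) = Fin.rev ((1 : Equiv.Perm (Fin (2 * m))) a)) :
    pIso (F := F) 1 h1 = 1 := by
  apply mat_injective
  rw [mat_pIso, pMat_one, mat_one]

theorem pIso_mem_Mono (π : Equiv.Perm (Fin (2 * m))) (hπ : ∀ a, π (Fin.rev a) = Fin.rev (π a)) :
    pIso (F := F) π hπ ∈ Mono m F := by
  refine ⟨π, fun a b hab => ?_⟩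
  rw [mat_pIso, pMat_apply, if_neg hab]


/-! ### the simple roots

Type `D_m`: the simple roots of type `A` are indexed by `k : Fin (m - 1)`; the `k`-th one involves the positions
`k`, `k + 1` and the mirrored positions `2m - 2 - k`, `2m - 1 - k` (four distinct positions).  The last node of
the `D_m` diagram is obtained from the root `k = m - 2` by conjugation with the reflection `rr` exchanging the
two middle positions `m - 1`, `m` (`rr` is an isometry which normalises `Bsub` but is not in `Bsub ⊔ Nsub`). -/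

/-- the position `k` -/
def ia (k : Fin (m - 1)) : Fin (2 * m) := ⟨k.val, by have := k.2; omega⟩

/-- the position `k + 1` -/
def ib (k : Fin (m - 1)) : Fin (2 * m) := ⟨k.val + 1, by have := k.2; omega⟩

theorem val_ia (k : Fin (m - 1)) : (ia k).val = k.val := rfl
theorem val_ib (k : Fin (m - 1)) : (ib k).val = k.val + 1 := rfl

/-- the root element `x_{ab}(t) = 1 + t E(a,b) - t E(rev b, rev a)` (an isometry when `a ≠ b`, `a ≠ rev b`) -/
def xMat (a b : Fin (2 * m)) (t : F) : Matrix (Fin (2 * m)) (Fin (2 * m)) F :=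
  1 + t • Matrix.single a b (1 : F) - t • Matrix.single (Fin.rev b) (Fin.rev a) (1 : F)

theorem xMat_apply (a b : Fin (2 * m)) (t : F) (i j : Fin (2 * m)) :
    xMat a b t i j = (if i = j then 1 else 0) + (if a = i ∧ b = j then t else 0)
      - (if Fin.rev b = i ∧ Fin.rev a = j then t else 0) := by
  unfold xMat
  simp only [Matrix.add_apply, Matrix.sub_apply, Matrix.smul_apply, Matrix.single_apply,
    Matrix.one_apply, smul_eq_mul, mul_ite, mul_one, mul_zero]

/-- the permutation of the positions induced by `s_k`: `(k k+1)(2m-2-k 2m-1-k)` -/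
def sPerm (k : Fin (m - 1)) : Equiv.Perm (Fin (2 * m)) :=
  Equiv.swap (ia k) (ib k) * Equiv.swap (Fin.rev (ia k)) (Fin.rev (ib k))

theorem eq_iff_val_eq (x y : Fin (2 * m)) : x = y ↔ x.val = y.val := Fin.ext_iff

/-- the action of `sPerm k` on the positions -/
theorem val_sPerm (k : Fin (m - 1)) (j : Fin (2 * m)) :
    (sPerm k j).val =
      if j.val = k.val then k.val + 1 else if j.val = k.val + 1 then k.val
        else if j.val = 2 * m - 2 - k.val then 2 * m - 1 - k.val
        else if j.val = 2 * m - 1 - k.val then 2 * m - 2 - k.val else j.val := by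
  have hk := k.2
  have hj := j.2
  unfold sPerm
  simp only [Equiv.Perm.mul_apply, Equiv.swap_apply_def, eq_iff_val_eq, val_ia, val_ib, val_rev,
    apply_ite Fin.val]
  split_ifs <;> omega

theorem sPerm_sPerm (k : Fin (m - 1)) (j : Fin (2 * m)) : sPerm k (sPerm k j) = j := by
  apply Fin.ext
  rw [val_sPerm, val_sPerm]
  have hk := k.2
  have hj := j.2
  split_ifs <;> omega

theorem sPerm_rev (k : Fin (m - 1)) (j : Fin (2 * m)) : sPerm k (Fin.rev j) = Fin.rev (sPerm k j) := by
  apply Fin.ext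
  rw [val_rev, val_sPerm, val_sPerm, val_rev]
  have hk := k.2
  have hj := j.2
  split_ifs <;> omega

/-- the permutation exchanging the two middle positions `m - 1` and `m` -/
def rPerm (m : ℕ) : Equiv.Perm (Fin (2 * m)) :=
  if h : 0 < m then Equiv.swap (⟨m - 1, by omega⟩ : Fin (2 * m)) ⟨m, by omega⟩ else 1

theorem val_rPerm (j : Fin (2 * m)) :
    (rPerm m j).val = if j.val + 1 = m then m else if j.val = m then m - 1 else j.val := by
  have hj := j.2
  unfold rPerm
  by_cases h : 0 < m
  · rw [dif_pos h]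
    simp only [Equiv.swap_apply_def, eq_iff_val_eq, apply_ite Fin.val]
    split_ifs <;> omega
  · omega

theorem rPerm_rPerm (j : Fin (2 * m)) : rPerm m (rPerm m j) = j := by
  apply Fin.ext
  rw [val_rPerm, val_rPerm]
  have hj := j.2
  split_ifs <;> omega

theorem rPerm_rev (j : Fin (2 * m)) : rPerm m (Fin.rev j) = Fin.rev (rPerm m j) := by
  apply Fin.ext
  rw [val_rev, val_rPerm, val_rPerm, val_rev]
  have hj := j.2
  split_ifs <;> omega

/-- the representative of the simple reflection `s_k` (type `A` nodes): a permutation matrix -/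
noncomputable def sA (k : Fin (m - 1)) : OG m F := pIso (sPerm k) (sPerm_rev k)

theorem mat_sA (k : Fin (m - 1)) : mat (sA (F := F) k) = pMat (sPerm k) := mat_pIso _ _

/-- the reflection exchanging the two middle basis vectors -/
noncomputable def rr : OG m F := pIso (rPerm m) rPerm_rev

theorem mat_rr : mat (rr : OG m F) = pMat (rPerm m) := mat_pIso _ _

theorem sA_mul_sA (k : Fin (m - 1)) : sA (F := F) k * sA k = 1 := by
  apply mat_injective
  rw [mat_mul, mat_sA, pMat_mul, mat_one]
  have : sPerm k * sPerm k = 1 := by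
    ext j
    rw [Equiv.Perm.mul_apply, sPerm_sPerm]
    rfl
  rw [this, pMat_one]

theorem rr_mul_rr : (rr : OG m F) * rr = 1 := by
  apply mat_injective
  rw [mat_mul, mat_rr, pMat_mul, mat_one]
  have : rPerm m * rPerm m = 1 := by
    ext j
    rw [Equiv.Perm.mul_apply, rPerm_rPerm]
    rfl
  rw [this, pMat_one]

theorem sA_inv (k : Fin (m - 1)) : (sA (F := F) k)⁻¹ = sA k := inv_eq_of_mul_eq_one_left (sA_mul_sA k)

theorem rr_inv : (rr : OG m F)⁻¹ = rr := inv_eq_of_mul_eq_one_left rr_mul_rr

/-- the root group `X_k` (as a set), `k` a node of type `A` -/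
def Xset (k : Fin (m - 1)) : Set (OG m F) := {g | ∃ t : F, mat g = xMat (ia k) (ib k) t}

/-- the root group of the last node: the conjugate of `X_k`, `k = m - 2`, by `rr` -/
def XsetD (k : Fin (m - 1)) : Set (OG m F) := {g | ∃ x ∈ Xset (F := F) k, g = rr * x * rr⁻¹}

/-- the representative of the last simple reflection, for `k = m - 2` -/
noncomputable def sD (k : Fin (m - 1)) : OG m F := rr * sA k * rr⁻¹

/-- the set of distinguished representatives of the simple reflections of type `D_m` -/
def Sset (m : ℕ) (F : Type*) [Field F] : Set (OG m F) :=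
  {g | ∃ k : Fin (m - 1), g = sA k} ∪ {g | ∃ k : Fin (m - 1), k.val + 2 = m ∧ g = sD k}

/-- the group `N` (even monomial isometries) -/
def Nsub (m : ℕ) (F : Type*) [Field F] : Subgroup (OG m F) :=
  Subgroup.closure (Sset m F) ⊔ Tsub m F

/-- the group with the `(B, N)`-pair: `G1 = ⟨B, N⟩` (it contains the commutator subgroup of `OG m F`) -/
def G1 (m : ℕ) (F : Type*) [Field F] : Subgroup (OG m F) := Bsub m F ⊔ Nsub m F


/-! ### monomial matrices: API (as in `Cfsg.Agent.Helper5.SuBN.Defs`) -/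

section mono

variable (n : OG m F) (π : Equiv.Perm (Fin (2 * m)))
  (hπ : ∀ a b : Fin (2 * m), a ≠ π b → mat n a b = 0)
include hπ

/-- the product of a matrix with a monomial matrix -/
theorem mul_mono_apply (A : Matrix (Fin (2 * m)) (Fin (2 * m)) F) (a b : Fin (2 * m)) :
    (A * mat n) a b = A a (π b) * mat n (π b) b := by
  rw [Matrix.mul_apply]
  apply Finset.sum_eq_single (π b)
  · intro c _ hc
    rw [hπ c b hc, mul_zero]
  · intro h; exact absurd (Finset.mem_univ _) h

/-- the nonzero entries of a monomial matrix are nonzero -/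
theorem mono_apply_ne_zero (b : Fin (2 * m)) : mat n (π b) b ≠ 0 := by
  intro h0
  have h1 := mul_mono_apply n π hπ (mat n⁻¹) b b
  rw [inv_mul_mat, Matrix.one_apply_eq, h0, mul_zero] at h1
  exact one_ne_zero h1

/-- the inverse of a monomial matrix is monomial for the inverse permutation -/
theorem mono_inv_apply_eq_zero (a c : Fin (2 * m)) (hac : a ≠ π⁻¹ c) : mat n⁻¹ a c = 0 := by
  set b := π⁻¹ c with hb
  have hc : c = π b := by rw [hb]; exact (Equiv.apply_symm_apply π c).symm
  have h2 := mul_mono_apply n π hπ (mat n⁻¹) a b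
  rw [inv_mul_mat, Matrix.one_apply_ne hac] at h2
  rw [hc]
  rcases mul_eq_zero.1 h2.symm with h | h
  · exact h
  · exact absurd h (mono_apply_ne_zero n π hπ b)

theorem mono_inv_apply_mul (a : Fin (2 * m)) : mat n⁻¹ a (π a) * mat n (π a) a = 1 := by
  have h1 := mul_mono_apply n π hπ (mat n⁻¹) a a
  rw [inv_mul_mat, Matrix.one_apply_eq] at h1
  exact h1.symm

theorem mono_inv_apply_ne_zero (a : Fin (2 * m)) : mat n⁻¹ a (π a) ≠ 0 := by
  intro h0
  have := mono_inv_apply_mul n π hπ a
  rw [h0, zero_mul] at this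
  exact zero_ne_one this

/-- the product of the inverse of a monomial matrix with a matrix -/
theorem inv_mono_mul_apply (A : Matrix (Fin (2 * m)) (Fin (2 * m)) F) (a b : Fin (2 * m)) :
    (mat n⁻¹ * A) a b = mat n⁻¹ a (π a) * A (π a) b := by
  rw [Matrix.mul_apply]
  apply Finset.sum_eq_single (π a)
  · intro c _ hc
    rw [mono_inv_apply_eq_zero n π hπ a c, zero_mul]
    intro h
    apply hc
    rw [h]
    exact (Equiv.apply_symm_apply π c).symm
  · intro h; exact absurd (Finset.mem_univ _) h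

/-- conjugation by a monomial matrix permutes the entries, up to nonzero scalars -/
theorem mono_conj_apply (g : OG m F) (a b : Fin (2 * m)) :
    mat (n⁻¹ * g * n) a b = mat n⁻¹ a (π a) * mat g (π a) (π b) * mat n (π b) b := by
  rw [mat_mul, mul_mono_apply n π hπ, mat_mul, inv_mono_mul_apply n π hπ]

/-- conjugation by a monomial matrix, the other way round -/
theorem mono_conj_apply' (g : OG m F) (a b : Fin (2 * m)) :
    mat (n * g * n⁻¹) (π a) (π b) = mat n (π a) a * mat g a b * mat n⁻¹ b (π b) := by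
  have hρ : ∀ a' b' : Fin (2 * m), a' ≠ π⁻¹ b' → mat n⁻¹ a' b' = 0 :=
    fun a' b' h => mono_inv_apply_eq_zero n π hπ a' b' h
  have h := mono_conj_apply n⁻¹ π⁻¹ hρ g (π a) (π b)
  rw [inv_inv] at h
  rw [h]
  simp

/-- a monomial isometry commutes with the reversal of the positions -/
theorem mono_perm_rev (a : Fin (2 * m)) : π (Fin.rev a) = Fin.rev (π a) := by
  by_contra hne
  have h0 : mat n (Fin.rev (π a)) (Fin.rev a) = 0 := hπ _ _ (fun h => hne h.symm)
  have h1 := inv_apply n a (π a)
  rw [h0] at h1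
  exact mono_inv_apply_ne_zero n π hπ a h1

end mono

/-! ### generation: vocabulary -/

/-- the first `j` columns of `g` are upper triangular (`g` stabilises the first `j` steps of the standard flag) -/
def Pj (j : ℕ) : Set (OG m F) :=
  {g | ∀ a b : Fin (2 * m), b.val < j → b < a → mat g a b = 0}

/-- `Pj j` is closed under inverses -/
theorem inv_mem_Pj (j : ℕ) (g : OG m F) (hg : g ∈ Pj j) : g⁻¹ ∈ Pj j := by
  have hB : BlockTriangular (mat g) (fun i : Fin (2 * m) => min i.val j) := by
    intro a b hab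
    have hab' : min b.val j < min a.val j := hab
    exact hg a b (by omega) (by rw [Fin.lt_def]; omega)
  have : Invertible (mat g) := Matrix.invertibleOfIsUnitDet _ (isUnit_det_mat g)
  have hB' := blockTriangular_inv_of_blockTriangular hB
  rw [← mat_inv_eq] at hB'
  intro a b hbj hba
  apply hB'
  show min b.val j < min a.val j
  rw [Fin.lt_def] at hba
  omega

/-- `Pj j` is closed under products -/
theorem mul_mem_Pj (j : ℕ) (g h : OG m F) (hg : g ∈ Pj j) (hh : h ∈ Pj j) : g * h ∈ Pj j := by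
  have hB : ∀ g : OG m F, g ∈ Pj j → BlockTriangular (mat g) (fun i : Fin (2 * m) => min i.val j) := by
    intro g hg a b hab
    have hab' : min b.val j < min a.val j := hab
    exact hg a b (by omega) (by rw [Fin.lt_def]; omega)
  have hB' := BlockTriangular.mul (hB g hg) (hB h hh)
  intro a b hbj hba
  rw [mat_mul]
  apply hB'
  show min b.val j < min a.val j
  rw [Fin.lt_def] at hba
  omega

/-- the first `j` columns of `h` are those of the identity matrix -/
def Fixj (j : ℕ) (h : OG m F) : Prop :=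
  ∀ a b : Fin (2 * m), b.val < j → mat h a b = if a = b then 1 else 0


/-! ### the permutation matrices in `OG` -/

/-- the isometries which are permutation matrices -/
def Psub (m : ℕ) (F : Type*) [Field F] : Subgroup (OG m F) where
  carrier := {g | ∃ π : Equiv.Perm (Fin (2 * m)), mat g = pMat π}
  mul_mem' := by
    rintro g h ⟨π, hπ⟩ ⟨ρ, hρ⟩
    exact ⟨π * ρ, by rw [mat_mul, hπ, hρ, pMat_mul]⟩
  one_mem' := ⟨1, by rw [mat_one, pMat_one]⟩
  inv_mem' := by
    rintro g ⟨π, hπ⟩
    refine ⟨Fin.revPerm * π⁻¹ * Fin.revPerm, ?_⟩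
    ext a b
    rw [inv_apply, hπ, pMat_apply, pMat_apply]
    simp only [Equiv.Perm.mul_apply, Fin.revPerm_apply]
    by_cases h : Fin.rev b = π (Fin.rev a)
    · rw [if_pos h, if_pos]
      rw [h]
      simp
    · rw [if_neg h, if_neg]
      intro h'
      apply h
      rw [h']
      simp

theorem mem_Psub_iff (g : OG m F) : g ∈ Psub m F ↔ ∃ π : Equiv.Perm (Fin (2 * m)), mat g = pMat π :=
  Iff.rfl

theorem pIso_mem_Psub (π : Equiv.Perm (Fin (2 * m))) (hπ : ∀ a, π (Fin.rev a) = Fin.rev (π a)) :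
    pIso (F := F) π hπ ∈ Psub m F := ⟨π, mat_pIso π hπ⟩

theorem sA_mem_Psub (k : Fin (m - 1)) : sA (F := F) k ∈ Psub m F := pIso_mem_Psub _ _

theorem rr_mem_Psub : (rr : OG m F) ∈ Psub m F := pIso_mem_Psub _ _

theorem sD_mem_Psub (k : Fin (m - 1)) : sD (F := F) k ∈ Psub m F :=
  (Psub m F).mul_mem ((Psub m F).mul_mem rr_mem_Psub (sA_mem_Psub k)) ((Psub m F).inv_mem rr_mem_Psub)

theorem Psub_le_Mono : Psub m F ≤ Mono m F := by
  rintro g ⟨π, hπ⟩
  refine ⟨π, fun a b hab => ?_⟩
  rw [hπ, pMat_apply, if_neg hab]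

/-- the full group generated by `B`, `N` and the reflection `rr` (it is the whole isometry group) -/
noncomputable def Hfull (m : ℕ) (F : Type*) [Field F] : Subgroup (OG m F) := G1 m F ⊔ Subgroup.zpowers rr

end Cfsg.Agent.Helper19.OpBN
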