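import Mathlib
import Cfsg.Agent.Helper19.OpBN.Defs

/-!
# S2548 piece (ANOM): the anomaly `O⁺₄(2)` -- the commutator subgroup has trivial centraliser
(helper19)
-/

set_option autoImplicit false

namespace Cfsg.Agent.Helper19.OpBN.Anom

open Matrix Cfsg Cfsg.Agent.Helper19.OpBN

variable {F : Type*} [Field F]

/-- the `4 × 4` matrices -/
abbrev M4 (F : Type*) [Field F] := Matrix (Fin 4) (Fin 4) F

theorem eq_zero_or_one_of_card [Fintype F] (hF : Fintype.card F = 2) (x : F) : x = 0 ∨ x = 1 := by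
  classical
  by_contra h
  push Not at h
  have h3 : ({0, 1, x} : Finset F).card = 3 := by
    rw [Finset.card_insert_of_notMem, Finset.card_insert_of_notMem, Finset.card_singleton]
    · simpa using h.2.symm
    · simp only [Finset.mem_insert, Finset.mem_singleton, not_or]
      exact ⟨zero_ne_one, h.1.symm⟩
  have := Finset.card_le_univ ({0, 1, x} : Finset F)
  omega

theorem two_eq_zero_of_card [Fintype F] (hF : Fintype.card F = 2) : (1 : F) + 1 = 0 := by
  rcases eq_zero_or_one_of_card hF ((1 : F) + 1) with h | h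
  · exact h
  · exfalso
    have : (1 : F) = 0 := by linear_combination h
    exact one_ne_zero this

def X01 : M4 F := !![1,1,0,0; 0,1,0,0; 0,0,1,1; 0,0,0,1]
def X10 : M4 F := !![1,0,0,0; 1,1,0,0; 0,0,1,0; 0,0,1,1]
def X02 : M4 F := !![1,0,1,0; 0,1,0,1; 0,0,1,0; 0,0,0,1]
def X20 : M4 F := !![1,0,0,0; 0,1,0,0; 1,0,1,0; 0,1,0,1]
def RR : M4 F := !![1,0,0,0; 0,0,1,0; 0,1,0,0; 0,0,0,1]
def W1 : M4 F := !![1,1,0,0; 1,0,0,0; 0,0,1,1; 0,0,1,0]
def W2 : M4 F := !![1,0,1,0; 0,1,0,1; 1,0,0,0; 0,1,0,0]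
def W3 : M4 F := !![1,1,1,1; 0,1,0,1; 0,0,1,1; 0,0,0,1]

theorem lo0 : (lo (0 : Fin 2) : Fin (2 * 2)) = (0 : Fin 4) := rfl
theorem lo1 : (lo (1 : Fin 2) : Fin (2 * 2)) = (1 : Fin 4) := rfl
theorem hi0 : (hi (0 : Fin 2) : Fin (2 * 2)) = (3 : Fin 4) := rfl
theorem hi1 : (hi (1 : Fin 2) : Fin (2 * 2)) = (2 : Fin 4) := rfl
theorem rev0 : Fin.rev (0 : Fin 4) = 3 := rfl
theorem rev1 : Fin.rev (1 : Fin 4) = 2 := rfl
theorem rev2 : Fin.rev (2 : Fin 4) = 1 := rfl
theorem rev3 : Fin.rev (3 : Fin 4) = 0 := rfl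

/-- the conditions for a `4 × 4` matrix -/
theorem isOJ_iff (M : M4 F) : IsOJ (m := 2) M ↔
    (∀ b : Fin 4, M 0 b * M 3 b + M 1 b * M 2 b = 0) ∧
    ∀ b c : Fin 4, M 0 b * M 3 c + M 1 b * M 2 c + M 2 b * M 1 c + M 3 b * M 0 c =
      if b = Fin.rev c then 1 else 0 := by
  unfold IsOJ
  constructor
  · rintro ⟨h1, h2⟩
    refine ⟨fun b => ?_, fun b c => ?_⟩
    · have := h1 b
      rw [Fin.sum_univ_two, lo0, lo1, hi0, hi1] at this
      exact this
    · have := h2 b c
      rw [show (∑ a : Fin (2 * 2), M a b * M (Fin.rev a) c) = ∑ a : Fin 4, M a b * M (Fin.rev a) c from rfl,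
        Fin.sum_univ_four, rev0, rev1, rev2, rev3] at this
      exact this
  · rintro ⟨h1, h2⟩
    refine ⟨fun b => ?_, fun b c => ?_⟩
    · rw [Fin.sum_univ_two, lo0, lo1, hi0, hi1]
      exact h1 b
    · rw [show (∑ a : Fin (2 * 2), M a b * M (Fin.rev a) c) = ∑ a : Fin 4, M a b * M (Fin.rev a) c from rfl,
        Fin.sum_univ_four, rev0, rev1, rev2, rev3]
      exact h2 b c

theorem isOJ_X01 (h2 : (1 : F) + 1 = 0) : IsOJ (m := 2) (X01 : M4 F) := by
  rw [isOJ_iff]
  refine ⟨fun b => ?_, fun b c => ?_⟩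
  · fin_cases b <;> simp [X01]
  · fin_cases b <;> fin_cases c <;> simp [X01, h2]

theorem isOJ_X10 (h2 : (1 : F) + 1 = 0) : IsOJ (m := 2) (X10 : M4 F) := by
  rw [isOJ_iff]
  refine ⟨fun b => ?_, fun b c => ?_⟩
  · fin_cases b <;> simp [X10]
  · fin_cases b <;> fin_cases c <;> simp [X10, h2]

theorem isOJ_X02 (h2 : (1 : F) + 1 = 0) : IsOJ (m := 2) (X02 : M4 F) := by
  rw [isOJ_iff]
  refine ⟨fun b => ?_, fun b c => ?_⟩
  · fin_cases b <;> simp [X02]
  · fin_cases b <;> fin_cases c <;> simp [X02, h2]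

theorem isOJ_X20 (h2 : (1 : F) + 1 = 0) : IsOJ (m := 2) (X20 : M4 F) := by
  rw [isOJ_iff]
  refine ⟨fun b => ?_, fun b c => ?_⟩
  · fin_cases b <;> simp [X20]
  · fin_cases b <;> fin_cases c <;> simp [X20, h2]

theorem isOJ_RR : IsOJ (m := 2) (RR : M4 F) := by
  rw [isOJ_iff]
  refine ⟨fun b => ?_, fun b c => ?_⟩
  · fin_cases b <;> simp [RR]
  · fin_cases b <;> fin_cases c <;> simp [RR]

theorem X01_sq (h2 : (1 : F) + 1 = 0) : (X01 : M4 F) * X01 = 1 := by
  ext i j
  fin_cases i <;> fin_cases j <;> simp [X01, Matrix.mul_apply, Fin.sum_univ_four, h2]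

theorem X10_sq (h2 : (1 : F) + 1 = 0) : (X10 : M4 F) * X10 = 1 := by
  ext i j
  fin_cases i <;> fin_cases j <;> simp [X10, Matrix.mul_apply, Fin.sum_univ_four, h2]

theorem X02_sq (h2 : (1 : F) + 1 = 0) : (X02 : M4 F) * X02 = 1 := by
  ext i j
  fin_cases i <;> fin_cases j <;> simp [X02, Matrix.mul_apply, Fin.sum_univ_four, h2]

theorem X20_sq (h2 : (1 : F) + 1 = 0) : (X20 : M4 F) * X20 = 1 := by
  ext i j
  fin_cases i <;> fin_cases j <;> simp [X20, Matrix.mul_apply, Fin.sum_univ_four, h2]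

theorem RR_sq : (RR : M4 F) * RR = 1 := by
  ext i j
  fin_cases i <;> fin_cases j <;> simp [RR, Matrix.mul_apply, Fin.sum_univ_four]

theorem W1_eq (h2 : (1 : F) + 1 = 0) : (X01 : M4 F) * X10 * (X01 * X10) = W1 := by
  have e : (X01 : M4 F) * X10 = !![0,1,0,0; 1,1,0,0; 0,0,0,1; 0,0,1,1] := by
    ext i j
    fin_cases i <;> fin_cases j <;> simp [X01, X10, Matrix.mul_apply, Fin.sum_univ_four, h2]
  rw [e]
  ext i j
  fin_cases i <;> fin_cases j <;> simp [W1, Matrix.mul_apply, Fin.sum_univ_four, h2]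

theorem W2_eq (h2 : (1 : F) + 1 = 0) : (X02 : M4 F) * X20 * (X02 * X20) = W2 := by
  have e : (X02 : M4 F) * X20 = !![0,0,1,0; 0,0,0,1; 1,0,1,0; 0,1,0,1] := by
    ext i j
    fin_cases i <;> fin_cases j <;> simp [X02, X20, Matrix.mul_apply, Fin.sum_univ_four, h2]
  rw [e]
  ext i j
  fin_cases i <;> fin_cases j <;> simp [W2, Matrix.mul_apply, Fin.sum_univ_four, h2]

theorem W3_eq (_h2 : (1 : F) + 1 = 0) : (X01 : M4 F) * RR * (X01 * RR) = W3 := by
  have e : (X01 : M4 F) * RR = !![1,0,1,0; 0,0,1,0; 0,1,0,1; 0,0,0,1] := by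
    ext i j
    fin_cases i <;> fin_cases j <;> simp [X01, RR, Matrix.mul_apply, Fin.sum_univ_four]
  rw [e]
  ext i j
  fin_cases i <;> fin_cases j <;> simp [W3, Matrix.mul_apply, Fin.sum_univ_four]

/-- the commutator of two involutions with given matrices -/
theorem exists_commutator (A B : M4 F) (hA : IsOJ (m := 2) A) (hB : IsOJ (m := 2) B)
    (hA2 : A * A = 1) (hB2 : B * B = 1) :
    ∃ w ∈ commutator (OG 2 F), mat w = A * B * (A * B) := by
  obtain ⟨g, hg⟩ := exists_of_isOJ hA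
  obtain ⟨h, hh⟩ := exists_of_isOJ hB
  have hg2 : g⁻¹ = g := by
    apply inv_eq_of_mul_eq_one_left
    apply mat_injective
    rw [mat_mul, mat_one, hg]
    exact hA2
  have hh2 : h⁻¹ = h := by
    apply inv_eq_of_mul_eq_one_left
    apply mat_injective
    rw [mat_mul, mat_one, hh]
    exact hB2
  refine ⟨g * h * g⁻¹ * h⁻¹, ?_, ?_⟩
  · have := Subgroup.commutator_mem_commutator (Subgroup.mem_top g) (Subgroup.mem_top h)
    rw [commutatorElement_def] at this
    rw [commutator_def]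
    exact this
  · rw [hg2, hh2, mat_mul, mat_mul, mat_mul, hg, hh, Matrix.mul_assoc]

/-- (ANOM) the anomaly `O⁺₄(2)`: the commutator subgroup has trivial centraliser -/
theorem eq_one_of_commute_commutator_two [Fintype F] (hF : Fintype.card F = 2) (z : OG 2 F)
    (hz : ∀ w ∈ commutator (OG 2 F), z * w = w * z) : z = 1 := by
  have h2 : (1 : F) + 1 = 0 := two_eq_zero_of_card hF
  obtain ⟨w1, hw1, hm1⟩ := exists_commutator (X01 : M4 F) X10 (isOJ_X01 h2) (isOJ_X10 h2)
    (X01_sq h2) (X10_sq h2)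
  obtain ⟨w2, hw2, hm2⟩ := exists_commutator (X02 : M4 F) X20 (isOJ_X02 h2) (isOJ_X20 h2)
    (X02_sq h2) (X20_sq h2)
  obtain ⟨w3, hw3, hm3⟩ := exists_commutator (X01 : M4 F) RR (isOJ_X01 h2) isOJ_RR
    (X01_sq h2) RR_sq
  rw [W1_eq h2] at hm1
  rw [W2_eq h2] at hm2
  rw [W3_eq h2] at hm3
  set Z : M4 F := mat z with hZ
  have c1 : Z * W1 = W1 * Z := by
    have := congrArg mat (hz w1 hw1)
    rw [mat_mul, mat_mul, hm1] at this
    exact this
  have c2 : Z * W2 = W2 * Z := by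
    have := congrArg mat (hz w2 hw2)
    rw [mat_mul, mat_mul, hm2] at this
    exact this
  have c3 : Z * W3 = W3 * Z := by
    have := congrArg mat (hz w3 hw3)
    rw [mat_mul, mat_mul, hm3] at this
    exact this
  have hOJ := (isOJ_iff Z).1 (isOJ_mat z)
  -- the equations
  have a00 : Z 0 1 = Z 1 0 := by
    have := congrFun (congrFun c1 0) 0
    simp [W1, Matrix.mul_apply, Fin.sum_univ_four] at this
    linear_combination this
  have a01 : Z 1 1 = Z 0 0 - Z 0 1 := by
    have := congrFun (congrFun c1 0) 1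
    simp [W1, Matrix.mul_apply, Fin.sum_univ_four] at this
    linear_combination -this
  have a02 : Z 0 3 = Z 1 2 := by
    have := congrFun (congrFun c1 0) 2
    simp [W1, Matrix.mul_apply, Fin.sum_univ_four] at this
    linear_combination this
  have a03 : Z 1 3 = Z 0 2 - Z 0 3 := by
    have := congrFun (congrFun c1 0) 3
    simp [W1, Matrix.mul_apply, Fin.sum_univ_four] at this
    linear_combination -this
  have a20 : Z 2 1 = Z 3 0 := by
    have := congrFun (congrFun c1 2) 0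
    simp [W1, Matrix.mul_apply, Fin.sum_univ_four] at this
    linear_combination this
  have a21 : Z 3 1 = Z 2 0 - Z 2 1 := by
    have := congrFun (congrFun c1 2) 1
    simp [W1, Matrix.mul_apply, Fin.sum_univ_four] at this
    linear_combination -this
  have a22 : Z 2 3 = Z 3 2 := by
    have := congrFun (congrFun c1 2) 2
    simp [W1, Matrix.mul_apply, Fin.sum_univ_four] at this
    linear_combination this
  have a23 : Z 3 3 = Z 2 2 - Z 2 3 := by
    have := congrFun (congrFun c1 2) 3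
    simp [W1, Matrix.mul_apply, Fin.sum_univ_four] at this
    linear_combination -this
  have b00 : Z 0 2 = Z 2 0 := by
    have := congrFun (congrFun c2 0) 0
    simp [W2, Matrix.mul_apply, Fin.sum_univ_four] at this
    linear_combination this
  have b02 : Z 2 2 = Z 0 0 - Z 0 2 := by
    have := congrFun (congrFun c2 0) 2
    simp [W2, Matrix.mul_apply, Fin.sum_univ_four] at this
    linear_combination -this
  have b01 : Z 0 3 = Z 2 1 := by
    have := congrFun (congrFun c2 0) 1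
    simp [W2, Matrix.mul_apply, Fin.sum_univ_four] at this
    linear_combination this
  have b03 : Z 2 3 = Z 0 1 - Z 0 3 := by
    have := congrFun (congrFun c2 0) 3
    simp [W2, Matrix.mul_apply, Fin.sum_univ_four] at this
    linear_combination -this
  have d31 : Z 3 0 = 0 := by
    have := congrFun (congrFun c3 3) 1
    simp [W3, Matrix.mul_apply, Fin.sum_univ_four] at this
    linear_combination this
  have d00 : Z 1 0 + Z 2 0 + Z 3 0 = 0 := by
    have := congrFun (congrFun c3 0) 0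
    simp [W3, Matrix.mul_apply, Fin.sum_univ_four] at this
    linear_combination -this
  have q0 := hOJ.1 0
  have r03 := hOJ.2 0 3
  rw [rev3, if_pos rfl] at r03
  have z10 : Z 1 0 = 0 := by
    have : Z 1 0 * Z 1 0 = 0 := by
      linear_combination (-1 : F) * q0 + Z 0 0 * d31 + Z 1 0 * d00 - Z 1 0 * d31
    exact mul_self_eq_zero.1 this
  have z01 : Z 0 1 = 0 := by rw [a00, z10]
  have z11 : Z 1 1 = Z 0 0 := by rw [a01, z01, sub_zero]
  have z20 : Z 2 0 = 0 := by linear_combination d00 - z10 - d31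
  have z02 : Z 0 2 = 0 := by rw [b00, z20]
  have z22 : Z 2 2 = Z 0 0 := by rw [b02, z02, sub_zero]
  have z21 : Z 2 1 = 0 := by rw [a20, d31]
  have z03 : Z 0 3 = 0 := by rw [b01, z21]
  have z12 : Z 1 2 = 0 := by rw [← a02, z03]
  have z13 : Z 1 3 = 0 := by rw [a03, z02, z03, sub_zero]
  have z31 : Z 3 1 = 0 := by rw [a21, z20, z21, sub_zero]
  have z23 : Z 2 3 = 0 := by rw [b03, z01, z03, sub_zero]
  have z32 : Z 3 2 = 0 := by rw [← a22, z23]
  have z33 : Z 3 3 = Z 0 0 := by rw [a23, z22, z23, sub_zero]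
  have z00 : Z 0 0 = 1 := by
    rcases eq_zero_or_one_of_card hF (Z 0 0) with h | h
    · exfalso
      rw [z33, h, z10, z20, d31] at r03
      simp at r03
    · exact h
  apply mat_injective
  rw [mat_one]
  show Z = 1
  ext i j
  fin_cases i <;> fin_cases j <;>
    simp [z00, z01, z02, z03, z10, z11, z12, z13, z20, z21, z22, z23, d31, z31, z32, z33]

end Cfsg.Agent.Helper19.OpBN.Anom
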