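import Cfsg.Agent.Helper19.OpBN.Defs
set_option autoImplicit false
namespace Cfsg.Agent.Helper19.OpBN
open Matrix
variable {F : Type*} [Field F] {m : ℕ}

theorem pMat_mul_apply (π : Equiv.Perm (Fin (2 * m))) (M : Matrix (Fin (2 * m)) (Fin (2 * m)) F)
    (a b : Fin (2 * m)) : ((pMat π : Matrix _ _ F) * M) a b = M (π⁻¹ a) b := by
  rw [Matrix.mul_apply, Finset.sum_eq_single (π⁻¹ a)]
  · rw [pMat_apply, if_pos (by simp), one_mul]
  · intro c _ hc
    rw [pMat_apply, if_neg, zero_mul]
    intro h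
    apply hc
    rw [h]
    simp
  · intro hh; exact absurd (Finset.mem_univ _) hh

theorem mul_pMat_apply (π : Equiv.Perm (Fin (2 * m))) (M : Matrix (Fin (2 * m)) (Fin (2 * m)) F)
    (a b : Fin (2 * m)) : (M * (pMat π : Matrix _ _ F)) a b = M a (π b) := by
  rw [Matrix.mul_apply, Finset.sum_eq_single (π b)]
  · rw [pMat_apply, if_pos rfl, mul_one]
  · intro c _ hc
    rw [pMat_apply, if_neg hc, mul_zero]
  · intro hh; exact absurd (Finset.mem_univ _) hh

theorem rPerm_inv : (rPerm m)⁻¹ = rPerm m := by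
  apply inv_eq_of_mul_eq_one_left
  ext j
  rw [Equiv.Perm.mul_apply, rPerm_rPerm]
  rfl

theorem rr_conj_apply (g : OG m F) (a b : Fin (2 * m)) :
    mat (rr * g * rr⁻¹) a b = mat g (rPerm m a) (rPerm m b) := by
  rw [rr_inv, mat_mul, mat_mul, mat_rr, mul_pMat_apply, pMat_mul_apply, rPerm_inv]


theorem Usub_inf_Tsub (g : OG m F) (hU : g ∈ Usub m F) (hT : g ∈ Tsub m F) : g = 1 := by
  apply mat_injective
  ext a b
  rw [mat_one]
  by_cases hab : a = b
  · subst hab
    rw [hU.2, Matrix.one_apply_eq]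
  · rw [hT a b hab, Matrix.one_apply_ne hab]

instance [Fintype F] : Finite (OG m F) := by
  classical
  haveI : Finite (GL (Fin (2 * m)) F) :=
    Finite.of_injective (Units.val : GL (Fin (2 * m)) F → Matrix (Fin (2 * m)) (Fin (2 * m)) F)
      Units.val_injective
  exact Finite.of_injective (fun g : OG m F => g.1) Subtype.val_injective

end Cfsg.Agent.Helper19.OpBN
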