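import Mathlib
import Cfsg.Agent.Helper19.OpBN.Defs
import Cfsg.Agent.Helper63.OpBNL1
import Cfsg.Agent.Helper63.OpBNL2
import Cfsg.Agent.Helper63.OpBNRED
import Cfsg.Agent.Helper63.OpBNTOP
import Cfsg.Agent.Helper63.OpBNSTEPMID
import Cfsg.Agent.Helper63.OpBNNORMIDX
import Cfsg.Agent.Helper47.OpBNSTEP1
import Cfsg.Agent.Helper47.OpBNSTEP2

/-!
# S2548: the isometry group is generated by `B`, `N` and the reflection `rr`; hence the
commutator subgroup lies in `G1 = ⟨B, N⟩` (helper19)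
-/

set_option autoImplicit false

namespace Cfsg.Agent.Helper19.OpBN.Gen

open Matrix Cfsg.Agent.Helper19.OpBN

variable {F : Type*} [Field F] {m : ℕ}

/-! ### pieces: generation -/

/-- (L1) an isometry whose first `m` columns are upper triangular is upper triangular -/
theorem Pj_half_subset_Bsub (g : OG m F) (hg : g ∈ Pj m) : g ∈ Bsub m F :=
  Cfsg.Agent.Helper63.OpBN.Pj_half_subset_Bsub g hg

/-- (STEP1) the last nonzero coordinate `A` is in the first half: use `x ∈ X_{A-1}` and `s_{A-1}` -/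
theorem step_first
    (hX : ∀ (a b : Fin (2 * m)), a ≠ b → a ≠ Fin.rev b → ∀ t : F, IsOJ (xMat a b t))
    (j A : ℕ) (hjA : j < A) (hA : A < m) (v : Fin (2 * m) → F)
    (hvA : ∀ a : Fin (2 * m), A < a.val → v a = 0) (a : Fin (2 * m)) (ha : a.val = A) (hva : v a ≠ 0) :
    ∃ h ∈ G1 m F, Fixj j h ∧ ∀ a : Fin (2 * m), A ≤ a.val → (mat h *ᵥ v) a = 0 :=
  Cfsg.Agent.Helper47.OpBN.step_first hX j A hjA hA v hvA a ha hva

/-- (STEPMID) the last nonzero coordinate is `m`: the vector is singular, so its coordinate `m - 1` vanishes;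
use the reflection `rr` -/
theorem step_middle (j : ℕ) (hj : j < m) (v : Fin (2 * m) → F) (hv : Qp m v = 0)
    (hvA : ∀ a : Fin (2 * m), m < a.val → v a = 0) (a : Fin (2 * m)) (ha : a.val = m) (hva : v a ≠ 0) :
    Fixj j (rr : OG m F) ∧ ∀ a : Fin (2 * m), m ≤ a.val → (mat (rr : OG m F) *ᵥ v) a = 0 :=
  Cfsg.Agent.Helper63.OpBN.step_middle j hj v hv hvA a ha hva

/-- (STEP2) the last nonzero coordinate `A` is in the second half, `A > m`: use the root `k = 2m - 1 - A` -/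
theorem step_second
    (hX : ∀ (a b : Fin (2 * m)), a ≠ b → a ≠ Fin.rev b → ∀ t : F, IsOJ (xMat a b t))
    (j A : ℕ) (hA : A + j ≤ 2 * m - 1) (hmA : m < A) (hAn : A < 2 * m) (v : Fin (2 * m) → F)
    (hvA : ∀ a : Fin (2 * m), A < a.val → v a = 0) (a : Fin (2 * m)) (ha : a.val = A) (hva : v a ≠ 0) :
    ∃ h ∈ G1 m F, Fixj j h ∧ ∀ a : Fin (2 * m), A ≤ a.val → (mat h *ᵥ v) a = 0 :=
  Cfsg.Agent.Helper47.OpBN.step_second hX j A hA hmA hAn v hvA a ha hva

/-- (RED) reduction of a singular vector to the `j`-th basis vector modulo the first `j` ones -/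
theorem exists_reduce
    (hstep : ∀ (j A : ℕ), j < A → A + j ≤ 2 * m - 1 → ∀ v : Fin (2 * m) → F, Qp m v = 0 →
      (∀ a : Fin (2 * m), A < a.val → v a = 0) → ∀ a : Fin (2 * m), a.val = A → v a ≠ 0 →
      ∃ h ∈ Hfull m F, Fixj j h ∧ ∀ a : Fin (2 * m), A ≤ a.val → (mat h *ᵥ v) a = 0)
    (j : ℕ) (hj : j < m) (v : Fin (2 * m) → F) (hv : Qp m v = 0)
    (hv0 : ∀ a : Fin (2 * m), 2 * m - 1 - j < a.val → v a = 0)
    (hv1 : ∃ a : Fin (2 * m), j ≤ a.val ∧ v a ≠ 0) :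
    ∃ h ∈ Hfull m F, Fixj j h ∧ ∀ a : Fin (2 * m), j < a.val → (mat h *ᵥ v) a = 0 :=
  Cfsg.Agent.Helper63.OpBN.exists_reduce hstep j hj v hv hv0 hv1

/-- (L2) one more column -/
theorem exists_mul_mem_Pj_succ
    (hred : ∀ (j : ℕ), j < m → ∀ v : Fin (2 * m) → F, Qp m v = 0 →
      (∀ a : Fin (2 * m), 2 * m - 1 - j < a.val → v a = 0) →
      (∃ a : Fin (2 * m), j ≤ a.val ∧ v a ≠ 0) →
      ∃ h ∈ Hfull m F, Fixj j h ∧ ∀ a : Fin (2 * m), j < a.val → (mat h *ᵥ v) a = 0)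
    (j : ℕ) (hj : j < m) (g : OG m F) (hg : g ∈ Pj j) :
    ∃ h ∈ Hfull m F, h * g ∈ Pj (j + 1) :=
  Cfsg.Agent.Helper63.OpBN.exists_mul_mem_Pj_succ hred j hj g hg

/-- (TOP) `B`, `N` and `rr` generate -/
theorem Hfull_eq_top_of
    (hL1 : ∀ g : OG m F, g ∈ Pj m → g ∈ Bsub m F)
    (hL2 : ∀ (j : ℕ), j < m → ∀ g : OG m F, g ∈ Pj j → ∃ h ∈ Hfull m F, h * g ∈ Pj (j + 1)) :
    Hfull m F = ⊤ :=
  Cfsg.Agent.Helper63.OpBN.Hfull_eq_top_of hL1 hL2

/-- (NORMIDX) generic: a subgroup normalised by `r` which together with `r` generates contains the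
commutator subgroup -/
theorem commutator_le_of_sup_zpowers {Γ : Type*} [Group Γ] (H : Subgroup Γ) (r : Γ)
    (hr : ∀ h ∈ H, r * h * r⁻¹ ∈ H) (hr' : ∀ h ∈ H, r⁻¹ * h * r ∈ H)
    (htop : H ⊔ Subgroup.zpowers r = ⊤) : commutator Γ ≤ H :=
  Cfsg.Agent.Helper63.OpBN.commutator_le_of_sup_zpowers H r hr hr' htop

/-! ### assembly -/

theorem G1_le_Hfull : G1 m F ≤ Hfull m F := le_sup_left

theorem rr_mem_Hfull : (rr : OG m F) ∈ Hfull m F :=
  (le_sup_right : Subgroup.zpowers rr ≤ Hfull m F) (Subgroup.mem_zpowers rr)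

theorem step_all
    (hX : ∀ (a b : Fin (2 * m)), a ≠ b → a ≠ Fin.rev b → ∀ t : F, IsOJ (xMat a b t))
    (j A : ℕ) (hjA : j < A) (hA : A + j ≤ 2 * m - 1) (v : Fin (2 * m) → F)
    (hv : Qp m v = 0) (hvA : ∀ a : Fin (2 * m), A < a.val → v a = 0) (a : Fin (2 * m))
    (ha : a.val = A) (hva : v a ≠ 0) :
    ∃ h ∈ Hfull m F, Fixj j h ∧ ∀ a : Fin (2 * m), A ≤ a.val → (mat h *ᵥ v) a = 0 := by
  have han := a.2
  rcases lt_trichotomy A m with h1 | h1 | h1
  · obtain ⟨h, hh, h2, h3⟩ := step_first hX j A hjA h1 v hvA a ha hva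
    exact ⟨h, G1_le_Hfull hh, h2, h3⟩
  · subst h1
    obtain ⟨h2, h3⟩ := step_middle j (by omega) v hv hvA a ha hva
    exact ⟨rr, rr_mem_Hfull, h2, h3⟩
  · obtain ⟨h, hh, h2, h3⟩ := step_second hX j A hA h1 (by omega) v hvA a ha hva
    exact ⟨h, G1_le_Hfull hh, h2, h3⟩

/-- the isometry group is generated by `B`, `N` and `rr` -/
theorem Hfull_eq_top
    (hX : ∀ (a b : Fin (2 * m)), a ≠ b → a ≠ Fin.rev b → ∀ t : F, IsOJ (xMat a b t)) :
    Hfull m F = ⊤ :=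
  Hfull_eq_top_of Pj_half_subset_Bsub
    (exists_mul_mem_Pj_succ (exists_reduce (step_all hX)))

/-- the commutator subgroup of the isometry group lies in `G1 = ⟨B, N⟩` -/
theorem commutator_le_G1
    (hX : ∀ (a b : Fin (2 * m)), a ≠ b → a ≠ Fin.rev b → ∀ t : F, IsOJ (xMat a b t))
    (hrB : ∀ b ∈ Bsub m F, (rr : OG m F) * b * rr⁻¹ ∈ Bsub m F)
    (hrN : ∀ n ∈ Nsub m F, (rr : OG m F) * n * rr⁻¹ ∈ Nsub m F) :
    commutator (OG m F) ≤ G1 m F := by
  have hr : ∀ h ∈ G1 m F, (rr : OG m F) * h * rr⁻¹ ∈ G1 m F := by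
    intro h hh
    unfold G1 at hh ⊢
    rw [← Subgroup.closure_eq (Bsub m F), ← Subgroup.closure_eq (Nsub m F),
      ← Subgroup.closure_union] at hh
    induction hh using Subgroup.closure_induction with
    | mem y hy =>
      rcases hy with hy | hy
      · exact Subgroup.mem_sup_left (hrB y hy)
      · exact Subgroup.mem_sup_right (hrN y hy)
    | one => rw [mul_one, mul_inv_cancel]; exact Subgroup.one_mem _
    | mul y z _ _ ihy ihz =>
      have e : rr * (y * z) * rr⁻¹ = (rr * y * rr⁻¹) * (rr * z * rr⁻¹) := by group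
      rw [e]
      exact Subgroup.mul_mem _ ihy ihz
    | inv y _ ihy =>
      have e : rr * y⁻¹ * rr⁻¹ = (rr * y * rr⁻¹)⁻¹ := by group
      rw [e]
      exact Subgroup.inv_mem _ ihy
  have hr' : ∀ h ∈ G1 m F, (rr : OG m F)⁻¹ * h * rr ∈ G1 m F := by
    intro h hh
    have := hr h hh
    rw [rr_inv] at this ⊢
    exact this
  exact commutator_le_of_sup_zpowers (G1 m F) rr hr hr' (Hfull_eq_top hX)

end Cfsg.Agent.Helper19.OpBN.Gen
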