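import Mathlib
import Cfsg.Agent.Helper19.OpBN.Defs
import Cfsg.Agent.Helper19.OpBN.Extra

/-!
# S2548 piece (MXb): a monomial element moving every root group out of `B` reverses the order of the positions
(up to the middle pair), hence `B ∩ n B n⁻¹ = T`  (helper19)
-/

set_option autoImplicit false
set_option linter.unusedSectionVars false

namespace Cfsg.Agent.Helper19.OpBN.MXb

open Matrix Cfsg Cfsg.Agent.Helper19.OpBN

variable {F : Type*} [Field F] {m : ℕ}

/-- if `π k < π (k + 1)` then `n` conjugates the root group `X_k` into `B` -/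
theorem conj_Xset_mem_Bsub (n : OG m F) (π : Equiv.Perm (Fin (2 * m)))
    (hπ : ∀ a b : Fin (2 * m), a ≠ π b → mat n a b = 0) (k : Fin (m - 1))
    (hlt : π (ia k) < π (ib k)) : ∀ x ∈ Xset k, n * x * n⁻¹ ∈ Bsub m F := by
  rintro x ⟨t, hx⟩
  rw [mem_Bsub_iff]
  intro a' b' hlt'
  obtain ⟨a, rfl⟩ := π.surjective a'
  obtain ⟨b, rfl⟩ := π.surjective b'
  rw [mono_conj_apply' n π hπ, hx, xMat_apply]
  have hrev := mono_perm_rev n π hπ
  have hab : a ≠ b := by rintro rfl; exact lt_irrefl _ hlt'
  have h1 : ¬ (ia k = a ∧ ib k = b) := by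
    rintro ⟨rfl, rfl⟩
    exact lt_asymm hlt hlt'
  have h2 : ¬ (Fin.rev (ib k) = a ∧ Fin.rev (ia k) = b) := by
    rintro ⟨rfl, rfl⟩
    rw [hrev, hrev] at hlt'
    exact lt_asymm hlt (Fin.rev_lt_rev.1 hlt')
  rw [if_neg hab, if_neg h1, if_neg h2]
  simp

/-- the product with the reflection `rr` is monomial -/
theorem mul_rr_mono (n : OG m F) (π : Equiv.Perm (Fin (2 * m)))
    (hπ : ∀ a b : Fin (2 * m), a ≠ π b → mat n a b = 0) :
    ∀ a b : Fin (2 * m), a ≠ (π * rPerm m) b → mat (n * rr) a b = 0 := by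
  intro a b hab
  rw [mat_mul, mat_rr, mul_pMat_apply]
  exact hπ a _ hab

/-- the chain of inequalities -/
theorem chain {N : ℕ} (m : ℕ) (f : Fin N → Fin N)
    (S1 : ∀ a b : Fin N, a.val + 1 = b.val → a.val + 1 ≠ m → f b < f a)
    (S2 : ∀ a b : Fin N, a.val + 2 = m → b.val = m → f b < f a)
    (S3 : ∀ a b : Fin N, a.val + 1 = m → b.val = m + 1 → f b < f a) :
    ∀ (d : ℕ) (a b : Fin N), b.val = a.val + d + 1 → ¬ (a.val + 1 = m ∧ b.val = m) → f b < f a := by
  intro d
  induction d using Nat.strong_induction_on with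
  | _ d ih =>
    intro a b hab hmid
    rcases Nat.eq_zero_or_pos d with hd | hd
    · subst hd
      exact S1 a b (by omega) (by intro h; exact hmid ⟨h, by omega⟩)
    · have hb' : b.val - 1 < N := by have := b.2; omega
      by_cases h1 : b.val = m
      · -- the step `m - 2 → m`
        have hc : m - 2 < N := by have := b.2; omega
        have hbc : f b < f ⟨m - 2, hc⟩ := S2 ⟨m - 2, hc⟩ b (by simp only; omega) h1
        by_cases hac : a.val + 2 = m
        · have : a = ⟨m - 2, hc⟩ := Fin.ext (by simp only; omega)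
          rw [this]; exact hbc
        · have := ih (m - 2 - a.val - 1) (by omega) a ⟨m - 2, hc⟩ (by simp only; omega)
            (by simp only; omega)
          exact lt_trans hbc this
      · have hbb' : f b < f ⟨b.val - 1, hb'⟩ := S1 ⟨b.val - 1, hb'⟩ b (by simp only; omega)
          (by simp only; omega)
        by_cases h2 : a.val + 1 = m ∧ b.val - 1 = m
        · exact S3 a b h2.1 (by omega)
        · have := ih (d - 1) (by omega) a ⟨b.val - 1, hb'⟩ (by simp only; omega) (by simp only; omega)
          exact lt_trans hbb' this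


/-- the lower bound on the images of the last positions -/
theorem lower_bound {N : ℕ} (m : ℕ) (f : Fin N → Fin N)
    (S1 : ∀ a b : Fin N, a.val + 1 = b.val → a.val + 1 ≠ m → f b < f a) :
    ∀ (t : ℕ) (y : Fin N), y.val + t + 1 = N → m + 1 ≤ y.val → t ≤ (f y).val := by
  intro t
  induction t with
  | zero => intro y _ _; exact Nat.zero_le _
  | succ t ih =>
    intro y hy hym
    have hy' : y.val + 1 < N := by omega
    have h1 := ih ⟨y.val + 1, hy'⟩ (by simp only; omega) (by simp only; omega)
    have h2 := S1 y ⟨y.val + 1, hy'⟩ rfl (by omega)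
    have h3 : (f ⟨y.val + 1, hy'⟩).val < (f y).val := h2
    omega

section main

variable (n : OG m F) (π : Equiv.Perm (Fin (2 * m)))
  (hπ : ∀ a b : Fin (2 * m), a ≠ π b → mat n a b = 0)
  (hA : ∀ k : Fin (m - 1), ¬ ∀ x ∈ Xset k, n * x * n⁻¹ ∈ Bsub m F)
  (hD : ∀ k : Fin (m - 1), k.val + 2 = m → ¬ ∀ x ∈ XsetD k, n * x * n⁻¹ ∈ Bsub m F)
include hπ hA

theorem stepA (k : Fin (m - 1)) : π (ib k) < π (ia k) := by
  rcases lt_trichotomy (π (ia k)) (π (ib k)) with h | h | h
  · exact absurd (conj_Xset_mem_Bsub n π hπ k h) (hA k)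
  · exfalso
    have := π.injective h
    have h2 := congrArg Fin.val this
    rw [val_ia, val_ib] at h2
    omega
  · exact h

include hD

theorem stepD (a b : Fin (2 * m)) (ha : a.val + 2 = m) (hb : b.val = m) : π b < π a := by
  have hk : a.val < m - 1 := by omega
  set k : Fin (m - 1) := ⟨a.val, hk⟩ with hkdef
  have e1 : rPerm m (ia k) = a := by
    apply Fin.ext
    rw [val_rPerm, val_ia]
    simp only [hkdef]
    split_ifs <;> omega
  have e2 : rPerm m (ib k) = b := by
    apply Fin.ext
    rw [val_rPerm, val_ib]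
    simp only [hkdef]
    split_ifs <;> omega
  rcases lt_trichotomy ((π * rPerm m) (ia k)) ((π * rPerm m) (ib k)) with h | h | h
  · exfalso
    apply hD k ha
    rintro g ⟨x, hx, rfl⟩
    have h3 := conj_Xset_mem_Bsub (n * rr) (π * rPerm m) (mul_rr_mono n π hπ) k h x hx
    have e : n * (rr * x * rr⁻¹) * n⁻¹ = n * rr * x * (n * rr)⁻¹ := by group
    rw [e]
    exact h3
  · exfalso
    have := (π * rPerm m).injective h
    have h2 := congrArg Fin.val this
    rw [val_ia, val_ib] at h2
    omega
  · rw [Equiv.Perm.mul_apply, Equiv.Perm.mul_apply, e1, e2] at h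
    exact h

theorem S1 (a b : Fin (2 * m)) (hab : a.val + 1 = b.val) (ham : a.val + 1 ≠ m) : π b < π a := by
  have hrev := mono_perm_rev n π hπ
  have hb := b.2
  by_cases hbm : b.val < m
  · have hk : a.val < m - 1 := by omega
    have e1 : ia (⟨a.val, hk⟩ : Fin (m - 1)) = a := Fin.ext rfl
    have e2 : ib (⟨a.val, hk⟩ : Fin (m - 1)) = b := Fin.ext (by rw [val_ib]; exact hab)
    have := stepA n π hπ hA ⟨a.val, hk⟩
    rwa [e1, e2] at this
  · have hk : 2 * m - 1 - b.val < m - 1 := by omega
    have e1 : Fin.rev (ia (⟨2 * m - 1 - b.val, hk⟩ : Fin (m - 1))) = b := by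
      apply Fin.ext
      rw [val_rev, val_ia]
      simp only
      omega
    have e2 : Fin.rev (ib (⟨2 * m - 1 - b.val, hk⟩ : Fin (m - 1))) = a := by
      apply Fin.ext
      rw [val_rev, val_ib]
      simp only
      omega
    have := stepA n π hπ hA ⟨2 * m - 1 - b.val, hk⟩
    rw [← e1, ← e2, hrev, hrev, Fin.rev_lt_rev]
    exact this

theorem S3 (a b : Fin (2 * m)) (ha : a.val + 1 = m) (hb : b.val = m + 1) : π b < π a := by
  have hrev := mono_perm_rev n π hπ
  have h := stepD n π hπ hA hD (Fin.rev b) (Fin.rev a) (by rw [val_rev]; omega) (by rw [val_rev]; omega)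
  rw [hrev, hrev, Fin.rev_lt_rev] at h
  exact h

end main


/-- (MXb) a monomial element moving every root group out of `B` reverses the order (up to the middle pair) -/
theorem conj_mem_Bsub_iff_of_not (n : OG m F) (hn : n ∈ Mono m F)
    (hA : ∀ k : Fin (m - 1), ¬ ∀ x ∈ Xset k, n * x * n⁻¹ ∈ Bsub m F)
    (hD : ∀ k : Fin (m - 1), k.val + 2 = m → ¬ ∀ x ∈ XsetD k, n * x * n⁻¹ ∈ Bsub m F)
    (u : OG m F) (hu : u ∈ Bsub m F) : n⁻¹ * u * n ∈ Bsub m F ↔ u ∈ Tsub m F := by
  obtain ⟨π, hπ⟩ := hn
  have hrev := mono_perm_rev n π hπ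
  have hch := chain m π (S1 n π hπ hA hD) (stepD n π hπ hA hD) (S3 n π hπ hA hD)
  have hlb := lower_bound m π (S1 n π hπ hA hD)
  constructor
  · intro h
    rw [mem_Bsub_iff] at h hu
    rw [mem_Tsub_iff]
    intro c d hcd
    rcases lt_or_gt_of_ne hcd with hlt | hlt
    swap
    · exact hu c d hlt
    -- `c < d`
    obtain ⟨a, rfl⟩ := π.surjective c
    obtain ⟨b, rfl⟩ := π.surjective d
    have hab : a ≠ b := fun h' => hcd (congrArg π h')
    have key : b < a → mat u (π a) (π b) = 0 := by
      intro hba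
      have h1 := h a b hba
      rw [mono_conj_apply n π hπ] at h1
      rcases mul_eq_zero.1 h1 with h2 | h2
      · rcases mul_eq_zero.1 h2 with h3 | h3
        · exact absurd h3 (mono_inv_apply_ne_zero n π hπ a)
        · exact h3
      · exact absurd h2 (mono_apply_ne_zero n π hπ b)
    rcases lt_or_gt_of_ne hab with hab' | hab'
    swap
    · exact key hab'
    -- `a < b`
    by_cases hmid : a.val + 1 = m ∧ b.val = m
    · -- the middle pair
      have hb : b = Fin.rev a := by
        apply Fin.ext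
        rw [val_rev]
        omega
      have hd : π b = Fin.rev (π a) := by rw [hb, hrev]
      have hlow : ∀ x : Fin (2 * m), x.val + 1 = m ∨ x.val = m → m ≤ (π x).val + 1 := by
        intro x hx
        by_cases hm2 : 2 ≤ m
        · have hy : m + 1 < 2 * m := by omega
          have h1 := hlb (m - 2) ⟨m + 1, hy⟩ (by simp only; omega) (by simp only; omega)
          have h2 : π ⟨m + 1, hy⟩ < π x := by
            rcases hx with hx | hx
            · exact S3 n π hπ hA hD x ⟨m + 1, hy⟩ hx rfl
            · exact S1 n π hπ hA hD x ⟨m + 1, hy⟩ (by simp only; omega) (by omega)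
          have h3 : (π ⟨m + 1, hy⟩).val < (π x).val := h2
          omega
        · omega
      have h1 := hlow a (Or.inl hmid.1)
      have h2 := hlow b (Or.inr hmid.2)
      have h3 : (π b).val = 2 * m - 1 - (π a).val := by rw [hd, val_rev]
      have h4 : (π a).val < (π b).val := hlt
      have h5 : (π a).val + 1 = m := by omega
      rw [hd]
      exact mid_zero u hu (π a) h5
    · exfalso
      have h1 := hch (b.val - a.val - 1) a b (by have : a.val < b.val := hab'; omega) hmid
      exact lt_asymm hlt h1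
  · intro h
    rw [mem_Tsub_iff] at h
    rw [mem_Bsub_iff]
    intro a b hba
    rw [mono_conj_apply n π hπ, h (π a) (π b) (fun h' => (ne_of_lt hba) (π.injective h').symm)]
    simp

end Cfsg.Agent.Helper19.OpBN.MXb
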