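import Mathlib
import Cfsg.Agent.Helper19.OpBN.Defs
import Cfsg.Agent.Helper19.OpBN.BNSub
import Cfsg.Agent.Helper93.OpBNMEMX
import Cfsg.Agent.Helper93.OpBNXB
import Cfsg.Agent.Helper63.OpBNN2
import Cfsg.Agent.Helper63.OpBNN3
import Cfsg.Agent.Helper24.OpBNPB
import Cfsg.Agent.Helper24.OpBNRS
import Cfsg.Agent.Helper33.OpBNR1
import Cfsg.Agent.Helper33.OpBNR3
import Cfsg.Agent.Helper47.OpBNR2
import Cfsg.Agent.Helper47.OpBNRB
import Cfsg.Agent.Helper42.OpBNCN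

/-!
# The type `D_m` (B,N)-pair of `G1 = ⟨B, N⟩ ≤ O(Qp m)` (helper19, S2548)

Assembly of the pieces of helper24, helper33, helper42, helper47, helper63, helper93.
-/

set_option autoImplicit false

namespace Cfsg.Agent.Helper19.OpBN.Pair

open Matrix Cfsg.Agent.Helper19.OpBN

variable {F : Type*} [Field F] {m : ℕ}

/-! ### pieces: the (B,N)-pair -/

/-- (MEMX) the root elements are isometries -/
theorem xMat_isOJ (a b : Fin (2 * m)) (hab : a ≠ b) (hab' : a ≠ Fin.rev b) (t : F) :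
    IsOJ (xMat a b t) :=
  Cfsg.Agent.Helper93.OpBN.xMat_isOJ a b hab hab' t

/-- (XB) root elements are upper unitriangular -/
theorem Xset_subset_Usub (k : Fin (m - 1)) : Xset (F := F) k ⊆ (Usub m F : Set (OG m F)) :=
  Cfsg.Agent.Helper93.OpBN.Xset_subset_Usub k

/-- (N2) upper triangular monomial matrices are diagonal -/
theorem Bsub_inf_Mono : Bsub m F ⊓ Mono m F = Tsub m F :=
  Cfsg.Agent.Helper63.OpBN.Bsub_inf_Mono

/-- (N3) the torus is normalised by the monomial group -/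
theorem conj_mem_Tsub (n : OG m F) (hn : n ∈ Mono m F) (t : OG m F) (ht : t ∈ Tsub m F) :
    n * t * n⁻¹ ∈ Tsub m F :=
  Cfsg.Agent.Helper63.OpBN.conj_mem_Tsub n hn t ht

/-- (PB) an upper triangular permutation matrix is the identity -/
theorem eq_one_of_mem_Psub_of_mem_Bsub (g : OG m F) (hP : g ∈ Psub m F) (hB : g ∈ Bsub m F) :
    g = 1 :=
  Cfsg.Agent.Helper24.OpBN.eq_one_of_mem_Psub_of_mem_Bsub g hP hB

/-- (R1) `B = (B ∩ s⁻¹ B s) X_k` -/
theorem exists_factor_A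
    (hX : ∀ (a b : Fin (2 * m)), a ≠ b → a ≠ Fin.rev b → ∀ t : F, IsOJ (xMat a b t))
    (k : Fin (m - 1)) (b : OG m F) (hb : b ∈ Bsub m F) :
    ∃ y x : OG m F, b = y * x ∧ sA k * y * (sA k)⁻¹ ∈ Bsub m F ∧ x ∈ Xset k :=
  Cfsg.Agent.Helper33.OpBN.exists_factor_A hX k b hb

/-- (R2) a monomial matrix `n` or `s n` conjugates `X_k` into `B` -/
theorem conj_Xset_dichotomy (k : Fin (m - 1)) (n : OG m F) (hn : n ∈ Mono m F) :
    (∀ x ∈ Xset k, n⁻¹ * x * n ∈ Bsub m F) ∨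
      (∀ x ∈ Xset k, (sA k * n)⁻¹ * x * (sA k * n) ∈ Bsub m F) :=
  Cfsg.Agent.Helper47.OpBN.conj_Xset_dichotomy k n hn

/-- (R3) the rank one relation `s x s⁻¹ ∈ B s X_k`: `x = x_k(t)`, `x₂ = x_k(t⁻¹)` -/
theorem rank_one_A
    (hX : ∀ (a b : Fin (2 * m)), a ≠ b → a ≠ Fin.rev b → ∀ t : F, IsOJ (xMat a b t))
    (k : Fin (m - 1)) (x : OG m F) (hx : x ∈ Xset k) (hx1 : x ≠ 1) :
    ∃ b₁ ∈ Bsub m F, ∃ x₂ ∈ Xset k, sA k * x * (sA k)⁻¹ = b₁ * sA k * x₂ :=
  Cfsg.Agent.Helper33.OpBN.rank_one_A hX k x hx hx1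

/-- (CN) -/
theorem conj_ne_A
    (hX : ∀ (a b : Fin (2 * m)), a ≠ b → a ≠ Fin.rev b → ∀ t : F, IsOJ (xMat a b t))
    (k : Fin (m - 1)) :
    (fun b : OG m F => sA k * b * sA k) '' (Bsub m F : Set (OG m F)) ≠ (Bsub m F : Set (OG m F)) :=
  Cfsg.Agent.Helper42.OpBN.conj_ne_A hX k

/-- (RB) the reflection `rr` normalises `B` -/
theorem rr_conj_mem_Bsub (b : OG m F) (hb : b ∈ Bsub m F) : rr * b * rr⁻¹ ∈ Bsub m F :=
  Cfsg.Agent.Helper47.OpBN.rr_conj_mem_Bsub b hb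

/-- (RS) the reflection `rr` commutes with `s_k` for `k + 2 < m` -/
theorem rr_conj_sA (k : Fin (m - 1)) (hk : k.val + 2 < m) : rr * sA (F := F) k * rr⁻¹ = sA k :=
  Cfsg.Agent.Helper24.OpBN.rr_conj_sA k hk

/-! ### assembly: the (B,N)-pair -/

theorem hX' : ∀ (a b : Fin (2 * m)), a ≠ b → a ≠ Fin.rev b → ∀ t : F, IsOJ (xMat a b t) :=
  fun a b h h' t => xMat_isOJ a b h h' t

theorem sD_mul_sD (k : Fin (m - 1)) : sD (F := F) k * sD k = 1 := by
  unfold sD
  have h : rr * sA k * rr⁻¹ * (rr * sA k * rr⁻¹) = rr * (sA (F := F) k * sA k) * rr⁻¹ := by group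
  rw [h, sA_mul_sA, mul_one, mul_inv_cancel]

theorem sD_inv (k : Fin (m - 1)) : (sD (F := F) k)⁻¹ = sD k := inv_eq_of_mul_eq_one_left (sD_mul_sD k)

theorem Sset_subset_Psub : Sset m F ⊆ (Psub m F : Set (OG m F)) := by
  rintro s (⟨k, rfl⟩ | ⟨k, -, rfl⟩)
  · exact sA_mem_Psub k
  · exact sD_mem_Psub k

theorem Nsub_le_Mono : Nsub m F ≤ Mono m F := by
  unfold Nsub
  rw [sup_le_iff, Subgroup.closure_le]
  exact ⟨fun s hs => Psub_le_Mono (Sset_subset_Psub hs), Tsub_le_Mono⟩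

theorem Bsub_inf_Nsub : Bsub m F ⊓ Nsub m F = Tsub m F := by
  apply le_antisymm
  · rw [← Bsub_inf_Mono]
    exact inf_le_inf_left _ Nsub_le_Mono
  · exact le_inf Tsub_le_Bsub le_sup_right

theorem rr_mem_Mono : (rr : OG m F) ∈ Mono m F := Psub_le_Mono rr_mem_Psub

/-- `rr` normalises `B`, both ways -/
theorem rr_conj_mem_Bsub' (b : OG m F) (hb : b ∈ Bsub m F) : rr⁻¹ * b * rr ∈ Bsub m F := by
  have h := rr_conj_mem_Bsub b hb
  rw [rr_inv] at h ⊢
  exact h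

theorem rr_conj_mem_Bsub_iff (b : OG m F) : rr * b * rr⁻¹ ∈ Bsub m F ↔ b ∈ Bsub m F := by
  constructor
  · intro h
    have h2 := rr_conj_mem_Bsub' _ h
    have e : rr⁻¹ * (rr * b * rr⁻¹) * rr = b := by group
    rwa [e] at h2
  · exact rr_conj_mem_Bsub b

/-- `rr` permutes the distinguished generators -/
theorem rr_conj_mem_Sset (s : OG m F) (hs : s ∈ Sset m F) : rr * s * rr⁻¹ ∈ Sset m F := by
  rcases hs with ⟨k, rfl⟩ | ⟨k, hk, rfl⟩
  · by_cases hk : k.val + 2 < m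
    · rw [rr_conj_sA k hk]
      exact Or.inl ⟨k, rfl⟩
    · have hk2 : k.val + 2 = m := by have := k.2; omega
      exact Or.inr ⟨k, hk2, rfl⟩
  · left
    refine ⟨k, ?_⟩
    unfold sD
    rw [rr_inv]
    have e : rr * (rr * sA k * rr) * rr = (rr * rr) * sA (F := F) k * (rr * rr) := by group
    rw [e, rr_mul_rr, one_mul, mul_one]

/-- `rr` normalises `N` -/
theorem rr_conj_mem_Nsub (n : OG m F) (hn : n ∈ Nsub m F) : rr * n * rr⁻¹ ∈ Nsub m F := by
  unfold Nsub at hn ⊢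
  rw [← Subgroup.closure_eq (Tsub m F), ← Subgroup.closure_union] at hn
  induction hn using Subgroup.closure_induction with
  | mem y hy =>
    rcases hy with hy | hy
    · exact Subgroup.mem_sup_left (Subgroup.subset_closure (rr_conj_mem_Sset y hy))
    · exact Subgroup.mem_sup_right (conj_mem_Tsub rr rr_mem_Mono y hy)
  | one => rw [mul_one, mul_inv_cancel]; exact Subgroup.one_mem _
  | mul y z _ _ ihy ihz =>
    have e : rr * (y * z) * rr⁻¹ = (rr * y * rr⁻¹) * (rr * z * rr⁻¹) := by group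
    rw [e]
    exact Subgroup.mul_mem _ ihy ihz
  | inv y _ ihy =>
    have e : rr * y⁻¹ * rr⁻¹ = (rr * y * rr⁻¹)⁻¹ := by group
    rw [e]
    exact Subgroup.inv_mem _ ihy

theorem rr_conj_mem_Nsub' (n : OG m F) (hn : n ∈ Nsub m F) : rr⁻¹ * n * rr ∈ Nsub m F := by
  have h := rr_conj_mem_Nsub n hn
  rw [rr_inv] at h ⊢
  exact h

theorem mem_dc_intro {G : Type*} [Group G] {B : Subgroup G} {x n b b' : G} (hb : b ∈ B)
    (hb' : b' ∈ B) (h : x = b * n * b') : x ∈ DoubleCoset.doubleCoset n (B : Set G) B := by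
  rw [DoubleCoset.mem_doubleCoset]
  exact ⟨b, hb, b', hb', h⟩

/-- the double coset axiom for the type `A` nodes -/
theorem mul_mem_union_A (k : Fin (m - 1)) (n : OG m F) (hn : n ∈ Nsub m F)
    (b : OG m F) (hb : b ∈ Bsub m F) :
    sA k * b * n ∈ DoubleCoset.doubleCoset (sA k * n) (Bsub m F : Set (OG m F)) (Bsub m F) ∪
      DoubleCoset.doubleCoset n (Bsub m F : Set (OG m F)) (Bsub m F) := by
  obtain ⟨y, x, rfl, hy, hx⟩ := exists_factor_A hX' k b hb
  have hnM := Nsub_le_Mono hn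
  by_cases hx1 : x = 1
  · subst hx1
    left
    refine mem_dc_intro hy (Bsub m F).one_mem ?_
    group
  rcases conj_Xset_dichotomy k n hnM with h | h
  · left
    refine mem_dc_intro hy (h x hx) ?_
    group
  · right
    obtain ⟨b₁, hb₁, x₂, hx₂, he⟩ := rank_one_A hX' k x hx hx1
    have hss : sA (F := F) k * sA k ∈ Bsub m F := by rw [sA_mul_sA]; exact Subgroup.one_mem _
    refine mem_dc_intro (b := sA k * y * (sA k)⁻¹ * b₁ * (sA k * sA k))
      ((Bsub m F).mul_mem ((Bsub m F).mul_mem hy hb₁) hss) (h x₂ hx₂) ?_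
    have e : sA k * (y * x) * n = sA k * y * (sA k)⁻¹ * (sA k * x * (sA k)⁻¹) * sA k * n := by group
    rw [e, he]
    group

/-- the double coset axiom for the last node -/
theorem mul_mem_union_D (k : Fin (m - 1)) (n : OG m F) (hn : n ∈ Nsub m F)
    (b : OG m F) (hb : b ∈ Bsub m F) :
    sD k * b * n ∈ DoubleCoset.doubleCoset (sD k * n) (Bsub m F : Set (OG m F)) (Bsub m F) ∪
      DoubleCoset.doubleCoset n (Bsub m F : Set (OG m F)) (Bsub m F) := by
  have h := mul_mem_union_A k (rr⁻¹ * n * rr) (rr_conj_mem_Nsub' n hn) (rr⁻¹ * b * rr)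
    (rr_conj_mem_Bsub' b hb)
  have e : sD k * b * n = rr * (sA k * (rr⁻¹ * b * rr) * (rr⁻¹ * n * rr)) * rr⁻¹ := by
    unfold sD; group
  rcases h with h | h
  · left
    rw [DoubleCoset.mem_doubleCoset] at h
    obtain ⟨c, hc, c', hc', he⟩ := h
    refine mem_dc_intro (rr_conj_mem_Bsub c hc) (rr_conj_mem_Bsub c' hc') ?_
    rw [e, he]
    unfold sD
    group
  · right
    rw [DoubleCoset.mem_doubleCoset] at h
    obtain ⟨c, hc, c', hc', he⟩ := h
    refine mem_dc_intro (rr_conj_mem_Bsub c hc) (rr_conj_mem_Bsub c' hc') ?_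
    rw [e, he]
    group

theorem conj_ne_D (k : Fin (m - 1)) :
    (fun b : OG m F => sD k * b * sD k) '' (Bsub m F : Set (OG m F)) ≠ (Bsub m F : Set (OG m F)) := by
  intro heq
  apply conj_ne_A (F := F) hX' k
  ext x
  constructor
  · rintro ⟨b, hb, rfl⟩
    have h1 : sD k * (rr * b * rr⁻¹) * sD k ∈ (Bsub m F : Set (OG m F)) := by
      rw [← heq]
      exact ⟨_, rr_conj_mem_Bsub b hb, rfl⟩
    have h2 := rr_conj_mem_Bsub' _ h1
    have e : rr⁻¹ * (sD k * (rr * b * rr⁻¹) * sD k) * rr = sA k * b * sA k := by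
      unfold sD; group
    rw [e] at h2
    exact h2
  · intro hx
    have h1 : rr * x * rr⁻¹ ∈ (Bsub m F : Set (OG m F)) := rr_conj_mem_Bsub x hx
    rw [← heq] at h1
    obtain ⟨b, hb, he⟩ := h1
    refine ⟨rr⁻¹ * b * rr, rr_conj_mem_Bsub' b hb, ?_⟩
    have e : sA k * (rr⁻¹ * b * rr) * sA k = rr⁻¹ * (sD k * b * sD k) * rr := by
      unfold sD; group
    have he' : sD k * b * sD k = rr * x * rr⁻¹ := he
    show sA k * (rr⁻¹ * b * rr) * sA k = x
    rw [e, he']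
    group

/-- **the (B,N)-data of type `D_m`** -/
noncomputable def bnData (m : ℕ) (F : Type*) [Field F] : BNData (OG m F) where
  B := Bsub m F
  N := Nsub m F
  S := Sset m F
  conj_mem := by
    intro n hn t ht
    rw [Bsub_inf_Nsub] at ht
    exact Tsub_le_Bsub (conj_mem_Tsub n (Nsub_le_Mono hn) t ht)
  subset := fun s hs => (le_sup_left : Subgroup.closure (Sset m F) ≤ Nsub m F)
    (Subgroup.subset_closure hs)
  sq_mem := by
    rintro s (⟨k, rfl⟩ | ⟨k, -, rfl⟩)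
    · rw [sA_mul_sA]; exact Subgroup.one_mem _
    · rw [sD_mul_sD]; exact Subgroup.one_mem _
  inj := by
    intro s hs s' hs' h
    have hP : s⁻¹ * s' ∈ Psub m F :=
      (Psub m F).mul_mem ((Psub m F).inv_mem (Sset_subset_Psub hs)) (Sset_subset_Psub hs')
    have h1 := eq_one_of_mem_Psub_of_mem_Bsub _ hP h
    exact (inv_mul_eq_one.1 h1)
  closure_sup := by
    rw [Bsub_inf_Nsub]
    rfl
  mul_mem_union := by
    rintro s (⟨k, rfl⟩ | ⟨k, -, rfl⟩) n hn b hb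
    · exact mul_mem_union_A k n hn b hb
    · exact mul_mem_union_D k n hn b hb
  conj_ne := by
    rintro s (⟨k, rfl⟩ | ⟨k, -, rfl⟩)
    · exact conj_ne_A hX' k
    · exact conj_ne_D k

end Cfsg.Agent.Helper19.OpBN.Pair
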