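import Mathlib
import Cfsg.Agent.Helper19.OpBN.Defs
import Cfsg.Agent.Helper19.OpBN.BNSub
import Cfsg.Agent.Helper19.OpBN.Extra
import Cfsg.Agent.Helper19.OpBN.Pair
import Cfsg.Agent.Helper19.OpBN.Gen
import Cfsg.Agent.Helper19.OpBN.Anom
import Cfsg.Agent.Helper19.OpBN.MXb
import Cfsg.Agent.Helper5.SuBN.Main
import Cfsg.Agent.Helper12.GFE
import Cfsg.Agent.Helper80.OpBNGEN1a
import Cfsg.Agent.Helper32.OpBNGEN1b
import Cfsg.Agent.Helper32.OpBNGEN1c
import Cfsg.Agent.Helper87.OpBNXOM1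
import Cfsg.Agent.Helper87.OpBNXOM2
import Cfsg.Agent.Helper47.OpBNBUT
import Cfsg.Agent.Helper47.OpBNUN
import Cfsg.Agent.Helper47.OpBNP9
import Cfsg.Agent.Helper47.OpBNP12
import Cfsg.Agent.Helper47.OpBNSINJ
import Cfsg.Agent.Helper47.OpBNTR

/-!
# S2548: the Steinberg character of `PΩ⁺_{2m}(q)` -- the assembly
(helper19; the pieces were proved by helper24, 32, 33, 42, 47, 63, 80, 87, 93 -- see the imports)

`GG = B ⊔ N` carries a type-`D_m` `(B, N)`-pair (`Pair.bnData`), its Steinberg character `stFun` is irreducible of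
degree `|U|` and non-negative on `B`; the commutator subgroup `Ω` of the full isometry group lies in `GG`
(`Gen.commutator_le_G1`); the restriction of `stFun` to `Ω` has a constituent which is trivial on the centre of `Ω`
(the centre lies in `B`), of degree the order of a Sylow `p`-subgroup; this descends to `PΩ`.
-/

set_option autoImplicit false

namespace Cfsg.Agent.Helper19.OpBN.Asm

open Matrix Cfsg Cfsg.Agent.Helper19.OpBN Cfsg.Agent.Helper19.OpBN.Pair
open Cfsg.Agent.Helper6 Cfsg.Agent.Helper19.Stein Cfsg.Agent.Helper19.StBN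

variable {F : Type*} [Field F] {m : ℕ}

/-! ### the root sets -/

/-- the root set attached to a distinguished generator -/
def Xof (s : OG m F) : Set (OG m F) :=
  {x | (∃ k : Fin (m - 1), s = sA k ∧ x ∈ Xset k) ∨
    (∃ k : Fin (m - 1), k.val + 2 = m ∧ s = sD k ∧ x ∈ XsetD k)}

theorem Xof_sA (k : Fin (m - 1)) : Xof (sA (F := F) k) = Xset k := by
  ext x
  constructor
  · rintro (⟨k', hk', hx⟩ | ⟨k', hk', hs, -⟩)
    · rwa [Cfsg.Agent.Helper47.OpBN.sA_injective hk']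
    · exact absurd hs (Cfsg.Agent.Helper47.OpBN.sA_ne_sD k k' hk')
  · intro hx
    exact Or.inl ⟨k, rfl, hx⟩

theorem sD_injective (k k' : Fin (m - 1)) (h : sD (F := F) k = sD k') : k = k' := by
  unfold sD at h
  have h2 : sA (F := F) k = sA k' := by
    have := congrArg (fun g => rr⁻¹ * g * rr) h
    simpa [mul_assoc] using this
  exact Cfsg.Agent.Helper47.OpBN.sA_injective h2

theorem Xof_sD (k : Fin (m - 1)) (hk : k.val + 2 = m) : Xof (sD (F := F) k) = XsetD k := by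
  ext x
  constructor
  · rintro (⟨k', hk', -⟩ | ⟨k', -, hs, hx⟩)
    · exact absurd hk'.symm (Cfsg.Agent.Helper47.OpBN.sA_ne_sD k' k hk)
    · rwa [sD_injective k k' hs]
  · intro hx
    exact Or.inr ⟨k, hk, rfl, hx⟩

theorem XsetD_subset_Usub (k : Fin (m - 1)) : XsetD (F := F) k ⊆ (Usub m F : Set (OG m F)) := by
  rintro g ⟨x, hx, rfl⟩
  have hxU := Xset_subset_Usub k hx
  have hB : rr * x * rr⁻¹ ∈ Bsub m F := rr_conj_mem_Bsub x (Usub_le_Bsub hxU)
  refine ⟨(mem_Bsub_iff _).1 hB, fun a => ?_⟩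
  rw [rr_conj_apply, hxU.2]

theorem Xof_subset_Usub (s : OG m F) : Xof s ⊆ (Usub m F : Set (OG m F)) := by
  rintro x (⟨k, -, hx⟩ | ⟨k, -, -, hx⟩)
  · exact Xset_subset_Usub k hx
  · exact XsetD_subset_Usub k hx

/-- the decomposition `B = (B ∩ s⁻¹ B s) X_s` for all distinguished generators -/
theorem exists_factor (s : OG m F) (hs : s ∈ Sset m F) (b : OG m F) (hb : b ∈ Bsub m F) :
    ∃ y x : OG m F, b = y * x ∧ s * y * s⁻¹ ∈ Bsub m F ∧ x ∈ Xof s := by
  rcases hs with ⟨k, rfl⟩ | ⟨k, hk, rfl⟩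
  · obtain ⟨y, x, h1, h2, h3⟩ := exists_factor_A hX' k b hb
    exact ⟨y, x, h1, h2, by rw [Xof_sA]; exact h3⟩
  · obtain ⟨y, x, h1, h2, h3⟩ := exists_factor_A hX' k (rr⁻¹ * b * rr) (rr_conj_mem_Bsub' b hb)
    refine ⟨rr * y * rr⁻¹, rr * x * rr⁻¹, ?_, ?_, ?_⟩
    · have e : rr * y * rr⁻¹ * (rr * x * rr⁻¹) = rr * (y * x) * rr⁻¹ := by group
      rw [e, ← h1]
      group
    · have e : sD k * (rr * y * rr⁻¹) * (sD k)⁻¹ = rr * (sA k * y * (sA k)⁻¹) * rr⁻¹ := by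
        unfold sD; group
      rw [e]
      exact rr_conj_mem_Bsub _ h2
    · rw [Xof_sD k hk]
      exact ⟨x, h3, rfl⟩


/-! ### the Steinberg character of `G1` -/

section steinberg

variable [Fintype F]

/-- the group with the `(B, N)`-pair -/
noncomputable def GG (m : ℕ) (F : Type*) [Field F] : Subgroup (OG m F) := (bnData m F).G

/-- the `(B, N)`-pair -/
noncomputable def PP (m : ℕ) (F : Type*) [Field F] : Cfsg.BNPair ↥(GG m F) := (bnData m F).toBNPair

omit [Fintype F] in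
theorem GG_eq : GG m F = G1 m F := rfl

omit [Fintype F] in
theorem Bsub_le_GG : Bsub m F ≤ GG m F := (bnData m F).B_le
omit [Fintype F] in
theorem Nsub_le_GG : Nsub m F ≤ GG m F := (bnData m F).N_le

omit [Fintype F] in
theorem PP_B : (PP m F).B = (Bsub m F).subgroupOf (GG m F) := rfl
omit [Fintype F] in
theorem PP_N : (PP m F).N = (Nsub m F).subgroupOf (GG m F) := rfl
omit [Fintype F] in
theorem PP_S : (PP m F).S = {s : ↥(GG m F) | (s : OG m F) ∈ Sset m F} := rfl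

omit [Fintype F] in
theorem mem_PP_B (g : ↥(GG m F)) : g ∈ (PP m F).B ↔ (g : OG m F) ∈ Bsub m F := by
  rw [PP_B]; exact Subgroup.mem_subgroupOf
omit [Fintype F] in
theorem mem_PP_N (g : ↥(GG m F)) : g ∈ (PP m F).N ↔ (g : OG m F) ∈ Nsub m F := by
  rw [PP_N]; exact Subgroup.mem_subgroupOf
omit [Fintype F] in
theorem mem_PP_S (g : ↥(GG m F)) : g ∈ (PP m F).S ↔ (g : OG m F) ∈ Sset m F := by
  rw [PP_S]; exact Iff.rfl

omit [Fintype F] in
theorem coe_conj (b u : ↥(GG m F)) : ((b⁻¹ * u * b : ↥(GG m F)) : OG m F) = (b : OG m F)⁻¹ * u * b := rfl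
omit [Fintype F] in
theorem coe_conj' (b u : ↥(GG m F)) : ((b * u * b⁻¹ : ↥(GG m F)) : OG m F) = (b : OG m F) * u * (b : OG m F)⁻¹ := rfl

/-- the root sets in `G1` -/
def XX (s : (PP m F).S) : Set ↥(GG m F) := {x | (x : OG m F) ∈ Xof (s.1 : OG m F)}

theorem hdec (s : (PP m F).S) (b : ↥(GG m F)) (hb : b ∈ (PP m F).B) :
    ∃ y x : ↥(GG m F), b = y * x ∧ s.1 * y * s.1⁻¹ ∈ (PP m F).B ∧ x ∈ XX s := by
  obtain ⟨y, x, h1, h2, h3⟩ := exists_factor (s.1 : OG m F) s.2 b ((mem_PP_B b).1 hb)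
  have hxB : x ∈ Bsub m F := Usub_le_Bsub (Xof_subset_Usub _ h3)
  have hyB : y ∈ Bsub m F := by
    have e : y = b * x⁻¹ := by rw [h1]; group
    rw [e]
    exact (Bsub m F).mul_mem ((mem_PP_B b).1 hb) ((Bsub m F).inv_mem hxB)
  refine ⟨⟨y, Bsub_le_GG hyB⟩, ⟨x, Bsub_le_GG hxB⟩, Subtype.ext h1, ?_, h3⟩
  rw [mem_PP_B, coe_conj']
  exact h2

/-- the unipotent radical in `G1` -/
noncomputable def UU (m : ℕ) (F : Type*) [Field F] : Subgroup ↥(GG m F) := (Usub m F).subgroupOf (GG m F)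

/-- the torus in `G1` -/
noncomputable def TT (m : ℕ) (F : Type*) [Field F] : Subgroup ↥(GG m F) := (Tsub m F).subgroupOf (GG m F)

theorem UU_le_B : UU m F ≤ (PP m F).B := fun g hg => (mem_PP_B g).2 (Usub_le_Bsub (Subgroup.mem_subgroupOf.1 hg))

theorem TT_le_B : TT m F ≤ (PP m F).B := fun g hg => (mem_PP_B g).2 (Tsub_le_Bsub (Subgroup.mem_subgroupOf.1 hg))

theorem XX_subset_UU (s : (PP m F).S) : XX s ⊆ (UU m F : Set ↥(GG m F)) :=
  fun x hx => Subgroup.mem_subgroupOf.2 (Xof_subset_Usub _ hx)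

/-- (P10) in `G1`, for any subgroup normalised by `B` and containing the root sets -/
theorem mem_B_of_conj (W : Subgroup ↥(GG m F)) (hWn : ∀ b ∈ (PP m F).B, ∀ u ∈ W, b⁻¹ * u * b ∈ W)
    (hXW : ∀ s : (PP m F).S, XX s ⊆ (W : Set ↥(GG m F))) (g : ↥(GG m F))
    (h : ∀ u ∈ W, g⁻¹ * u * g ∈ (PP m F).B) : g ∈ (PP m F).B :=
  Cfsg.Agent.Helper5.SuBN.mem_B_of_conj_gen (PP m F) XX hdec W hWn hXW g h

omit [Fintype F] in
theorem UU_normal (b : ↥(GG m F)) (hb : b ∈ (PP m F).B) (u : ↥(GG m F)) (hu : u ∈ UU m F) :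
    b⁻¹ * u * b ∈ UU m F := by
  have hu' : (u : OG m F) ∈ Usub m F := Subgroup.mem_subgroupOf.1 hu
  have hb' : (b : OG m F) ∈ Bsub m F := (mem_PP_B b).1 hb
  have h := Cfsg.Agent.Helper47.OpBN.conj_mem_Usub (b : OG m F) hb' (u : OG m F) hu'
  exact Subgroup.mem_subgroupOf.2 h

theorem steinberg_G1 (p : ℕ) [Fact p.Prime] [CharP F p] :
    ∃ χ : ↥(GG m F) → ℂ, IsIrrCharacter ↥(GG m F) χ ∧
      (∀ Q : Sylow p ↥(GG m F), χ 1 = Nat.card Q) ∧
      (∀ b ∈ (PP m F).B, ∃ r : ℕ, χ b = r) := by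
  classical
  have : Finite ↥(GG m F) := inferInstance
  have : Fintype ↥(PP m F).S := Fintype.ofFinite _
  -- the longest element
  obtain ⟨n₀, hn₀, hmax, hnot⟩ := Cfsg.Agent.Helper5.SpBN.exists_maxR_not_conj (PP m F) XX hdec
  have hn₀M : (n₀ : OG m F) ∈ Mono m F := Nsub_le_Mono ((mem_PP_N n₀).1 hn₀)
  have hA : ∀ k : Fin (m - 1), ¬ ∀ x ∈ Xset k, (n₀ : OG m F) * x * (n₀ : OG m F)⁻¹ ∈ Bsub m F := by
    intro k hk
    have hsS : sA (F := F) k ∈ Sset m F := Or.inl ⟨k, rfl⟩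
    have hsG : sA (F := F) k ∈ GG m F := Nsub_le_GG ((bnData m F).subset hsS)
    apply hnot ⟨⟨sA k, hsG⟩, hsS⟩
    intro x hx
    have hx' : (x : OG m F) ∈ Xset k := by
      have : (x : OG m F) ∈ Xof (sA (F := F) k) := hx
      rwa [Xof_sA] at this
    rw [mem_PP_B, coe_conj']
    exact hk _ hx'
  have hD : ∀ k : Fin (m - 1), k.val + 2 = m →
      ¬ ∀ x ∈ XsetD k, (n₀ : OG m F) * x * (n₀ : OG m F)⁻¹ ∈ Bsub m F := by
    intro k hk2 hk
    have hsS : sD (F := F) k ∈ Sset m F := Or.inr ⟨k, hk2, rfl⟩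
    have hsG : sD (F := F) k ∈ GG m F := Nsub_le_GG ((bnData m F).subset hsS)
    apply hnot ⟨⟨sD k, hsG⟩, hsS⟩
    intro x hx
    have hx' : (x : OG m F) ∈ XsetD k := by
      have : (x : OG m F) ∈ Xof (sD (F := F) k) := hx
      rwa [Xof_sD k hk2] at this
    rw [mem_PP_B, coe_conj']
    exact hk _ hx'
  have hH : ∀ u ∈ (PP m F).B, n₀⁻¹ * u * n₀ ∈ (PP m F).B ↔ u ∈ TT m F := by
    intro u hu
    rw [mem_PP_B, coe_conj]
    show _ ↔ (u : OG m F) ∈ Tsub m F
    exact Cfsg.Agent.Helper19.OpBN.MXb.conj_mem_Bsub_iff_of_not (n₀ : OG m F) hn₀M hA hD u ((mem_PP_B u).1 hu)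
  -- the Sylow subgroups
  have hUp : IsPGroup p (UU m F) := by
    have h := Cfsg.Agent.Helper47.OpBN.Usub_isPGroup (F := F) (m := m) p
    exact h.of_equiv (Subgroup.subgroupOfEquivOfLe (Usub_le_Bsub.trans Bsub_le_GG)).symm
  have hUn : ∀ b ∈ (PP m F).B, ∀ u ∈ UU m F, b⁻¹ * u * b ∈ UU m F := by
    intro b hb u hu
    exact UU_normal b hb u hu
  have h10 : ∀ g : ↥(GG m F), (∀ u ∈ UU m F, g⁻¹ * u * g ∈ (PP m F).B) → g ∈ (PP m F).B :=
    fun g hg => mem_B_of_conj (UU m F) hUn XX_subset_UU g hg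
  have h11 : ¬ p ∣ ((PP m F).B).index :=
    Cfsg.Agent.Helper55.SpBNP11.not_dvd_index_of_fixed p (UU m F) (PP m F).B UU_le_B hUp h10
  have hBUT : ∀ b ∈ (PP m F).B, ∃ u ∈ UU m F, ∃ t ∈ TT m F, b = u * t := by
    intro b hb
    obtain ⟨u, hu, t, ht, he⟩ := Cfsg.Agent.Helper47.OpBN.exists_Usub_mul_Tsub (b : OG m F) ((mem_PP_B b).1 hb)
    exact ⟨⟨u, Bsub_le_GG (Usub_le_Bsub hu)⟩, Subgroup.mem_subgroupOf.2 hu,
      ⟨t, Bsub_le_GG (Tsub_le_Bsub ht)⟩, Subgroup.mem_subgroupOf.2 ht, Subtype.ext he⟩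
  have hUT : ∀ g : ↥(GG m F), g ∈ UU m F → g ∈ TT m F → g = 1 := by
    intro g hu ht
    exact Subtype.ext (Usub_inf_Tsub (g : OG m F) (Subgroup.mem_subgroupOf.1 hu)
      (Subgroup.mem_subgroupOf.1 ht))
  have h13 : ∃ k : ℕ, ((TT m F).subgroupOf (PP m F).B).index = p ^ k := by
    obtain ⟨k, hk⟩ := (IsPGroup.iff_card (p := p) (G := UU m F)).mp hUp
    refine ⟨k, ?_⟩
    rw [Cfsg.Agent.Helper55.SpBNP13.index_subgroupOf_eq_card (UU m F) (TT m F) (PP m F).B
      UU_le_B TT_le_B hBUT hUT, hk]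
  have h12 : ¬ p ∣ Nat.card (TT m F) := by
    have h := Cfsg.Agent.Helper47.OpBN.not_dvd_card_Tsub (F := F) (m := m) p
    have e : Nat.card (TT m F) = Nat.card (Tsub m F) :=
      Nat.card_congr (Subgroup.subgroupOfEquivOfLe (Tsub_le_Bsub.trans Bsub_le_GG)).toEquiv
    rwa [e]
  have hsyl : ∀ Q : Sylow p ↥(GG m F), Nat.card Q = ((TT m F).subgroupOf (PP m F).B).index :=
    fun Q => Cfsg.Agent.Helper55.SpBNP14.card_sylow_of_chain p (TT m F) (PP m F).B TT_le_B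
      h11 h12 h13 Q
  refine ⟨stFun (PP m F), stFun_isIrr (PP m F) n₀ hn₀ hmax (TT m F) hH, ?_, ?_⟩
  · intro Q
    rw [stFun_one (PP m F) n₀ hn₀ hmax (TT m F) hH, hsyl Q]
  · intro b hb
    refine ⟨_, stFun_restrict (PP m F) n₀ hn₀ hmax (TT m F) hH ⟨b, hb⟩⟩

end steinberg


/-! ### the commutator subgroup -/

section omega

theorem commutator_le_GG : commutator (OG m F) ≤ GG m F :=
  Cfsg.Agent.Helper19.OpBN.Gen.commutator_le_G1 hX' (fun b hb => rr_conj_mem_Bsub b hb)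
    (fun n hn => rr_conj_mem_Nsub n hn)

/-- `Ω` as a subgroup of `G1` -/
noncomputable def OmG (m : ℕ) (F : Type*) [Field F] : Subgroup ↥(GG m F) :=
  (commutator (OG m F)).subgroupOf (GG m F)

instance OmG_normal : (OmG m F).Normal := by
  unfold OmG
  have : (commutator (OG m F)).Normal := by
    rw [commutator_def]
    infer_instance
  infer_instance

theorem mem_OmG (g : ↥(GG m F)) : g ∈ OmG m F ↔ (g : OG m F) ∈ commutator (OG m F) :=
  Subgroup.mem_subgroupOf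

/-- the root sets lie in the commutator subgroup, outside the anomaly -/
theorem Xof_subset_commutator (hgood : (∃ c : F, c ≠ 0 ∧ c ≠ 1) ∨ 3 ≤ m) (s : OG m F) :
    Xof s ⊆ ((commutator (OG m F) : Subgroup (OG m F)) : Set (OG m F)) := by
  have hA : ∀ k : Fin (m - 1), Xset k ⊆ ((commutator (OG m F) : Subgroup (OG m F)) : Set (OG m F)) := by
    intro k
    rcases hgood with ⟨c, hc0, hc1⟩ | h3
    · exact Cfsg.Agent.Helper87.OpBN.Xset_subset_commutator_of_ne hX' c hc0 hc1 k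
    · exact Cfsg.Agent.Helper87.OpBN.Xset_subset_commutator_of_three hX' h3 k
  have hn : (commutator (OG m F)).Normal := by
    rw [commutator_def]
    infer_instance
  rintro x (⟨k, -, hx⟩ | ⟨k, -, -, ⟨y, hy, rfl⟩⟩)
  · exact hA k hx
  · exact hn.conj_mem y (hA k hy) rr

variable [Fintype F]

/-- the centraliser of `Ω` in `Ω` lies in `B` -/
theorem center_OmG_le_B (z : ↥(GG m F)) (hz : z ∈ OmG m F)
    (hzc : ∀ w ∈ OmG m F, z * w = w * z) : z ∈ (PP m F).B := by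
  classical
  by_cases hgood : (∃ c : F, c ≠ 0 ∧ c ≠ 1) ∨ 3 ≤ m ∨ m ≤ 1
  · -- the root sets lie in `Ω`
    have hX : ∀ s : (PP m F).S, XX s ⊆ ((OmG m F ⊓ UU m F : Subgroup ↥(GG m F)) : Set ↥(GG m F)) := by
      intro s x hx
      refine Subgroup.mem_inf.2 ⟨?_, XX_subset_UU s hx⟩
      rw [mem_OmG]
      rcases hgood with h | h | h
      · exact Xof_subset_commutator (Or.inl h) _ hx
      · exact Xof_subset_commutator (Or.inr h) _ hx
      · exfalso
        rcases hx with ⟨k, -, -⟩ | ⟨k, -, -, -⟩ <;> exact absurd k.2 (by omega)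
    apply mem_B_of_conj (OmG m F ⊓ UU m F) ?_ hX z
    · intro u hu
      have hu1 := (Subgroup.mem_inf.1 hu).1
      have hu2 := (Subgroup.mem_inf.1 hu).2
      have e : z⁻¹ * u * z = u := by
        rw [mul_assoc, ← hzc u hu1, ← mul_assoc, inv_mul_cancel, one_mul]
      rw [e]
      exact UU_le_B hu2
    · intro b hb u hu
      refine Subgroup.mem_inf.2 ⟨?_, UU_normal b hb u (Subgroup.mem_inf.1 hu).2⟩
      have h := OmG_normal.conj_mem u (Subgroup.mem_inf.1 hu).1 b⁻¹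
      rwa [inv_inv] at h
  · -- the anomaly
    push Not at hgood
    obtain ⟨h1, h2, h3⟩ := hgood
    have hm : m = 2 := by omega
    subst hm
    have hF : Fintype.card F = 2 := by
      apply le_antisymm
      · by_contra hlt
        push Not at hlt
        have : ∃ c : F, c ∉ ({0, 1} : Finset F) := by
          by_contra hall
          push Not at hall
          have : Fintype.card F ≤ ({0, 1} : Finset F).card := by
            rw [← Finset.card_univ]
            exact Finset.card_le_card (fun x _ => hall x)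
          have h2' : ({0, 1} : Finset F).card ≤ 2 := Finset.card_le_two
          omega
        obtain ⟨c, hc⟩ := this
        simp only [Finset.mem_insert, Finset.mem_singleton, not_or] at hc
        exact hc.2 (h1 c hc.1)
      · exact Fintype.one_lt_card
    have hz1 : (z : OG 2 F) = 1 := by
      apply Cfsg.Agent.Helper19.OpBN.Anom.eq_one_of_commute_commutator_two hF
      intro w hw
      have hwG : w ∈ GG 2 F := commutator_le_GG hw
      have := hzc ⟨w, hwG⟩ ((mem_OmG _).2 hw)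
      exact congrArg Subtype.val this
    have : z = 1 := Subtype.ext hz1
    rw [this]
    exact Subgroup.one_mem _

/-- the character of `Ω` -/
theorem steinberg_OmG (p : ℕ) [Fact p.Prime] [CharP F p] :
    ∃ θ : ↥(OmG m F) → ℂ, IsIrrCharacter ↥(OmG m F) θ ∧
      (∀ z ∈ Subgroup.center ↥(OmG m F), θ z = θ 1) ∧
      (∀ Q : Sylow p ↥(OmG m F), θ 1 = Nat.card Q) ∧
      ¬ p ∣ Nat.card (Subgroup.center ↥(OmG m F)) := by
  classical
  have : Fintype ↥(GG m F) := Fintype.ofFinite _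
  have : Fintype ↥(OmG m F) := Fintype.ofFinite _
  obtain ⟨χ, hχ, hdeg, hnn⟩ := steinberg_G1 (F := F) (m := m) p
  have hχc : IsCharacter ↥(GG m F) χ := Cfsg.Agent.Helper74.isCharacter_of_isIrr hχ
  have hψ : IsCharacter ↥(OmG m F) (fun n : ↥(OmG m F) => χ n) :=
    Cfsg.Agent.Helper74.isCharacter_restrict (OmG m F) hχc
  have h1 : (fun n : ↥(OmG m F) => χ n) 1 ≠ 0 := by
    obtain ⟨Q⟩ : Nonempty (Sylow p ↥(GG m F)) := inferInstance
    show χ ((1 : ↥(OmG m F)) : ↥(GG m F)) ≠ 0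
    rw [Subgroup.coe_one, hdeg Q]
    exact_mod_cast Nat.card_pos.ne'
  have hnn' : ∀ a ∈ Subgroup.center ↥(OmG m F), ∃ r : ℕ, (fun n : ↥(OmG m F) => χ n) a = r := by
    intro a ha
    apply hnn
    apply center_OmG_le_B (a : ↥(GG m F)) a.2
    intro w hw
    have := Subgroup.mem_center_iff.1 ha ⟨w, hw⟩
    exact (congrArg Subtype.val this).symm
  obtain ⟨θ, hθ, hcon, htriv⟩ := Cfsg.Agent.Helper32.OpBN.exists_constituent_trivial_on _ hψ h1
    (Subgroup.center ↥(OmG m F)) le_rfl hnn'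
  have hθdeg := Cfsg.Agent.Helper80.OpBN.constituent_degree p (OmG m F) χ hχ hdeg θ hθ hcon
  exact ⟨θ, hθ, htriv, hθdeg,
    Cfsg.Agent.Helper32.OpBN.not_dvd_card_of_trivial_on p θ hθ hθdeg (Subgroup.center ↥(OmG m F)) htriv⟩

/-- the statement for the form `Qp m`, transported to the Prelude's form -/
theorem main (p : ℕ) [Fact p.Prime] [CharP F p] :
    ∃ χ : Cfsg.POmega F (Cfsg.quadFormPlus m F) → ℂ,
      Cfsg.IsIrrCharacter (Cfsg.POmega F (Cfsg.quadFormPlus m F)) χ ∧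
      ∀ P : Sylow p (Cfsg.POmega F (Cfsg.quadFormPlus m F)), χ 1 = Nat.card P ∧
        ∀ x : Cfsg.POmega F (Cfsg.quadFormPlus m F), x ∈ P → x ≠ 1 → χ x = 0 := by
  obtain ⟨e0⟩ := Cfsg.Agent.Helper47.OpBN.nonempty_mulEquiv_isometry (F := F) m
  have e : ↥(OmG m F) ≃* ↥(Cfsg.Omega F (Cfsg.quadFormPlus m F)) :=
    (Subgroup.subgroupOfEquivOfLe commutator_le_GG).trans (Cfsg.Agent.Helper12.GF.commCongr e0.symm)
  exact Cfsg.Agent.Helper5.SuBN.Main.steinberg_of_mulEquiv e p (steinberg_OmG p)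

end omega

end Cfsg.Agent.Helper19.OpBN.Asm

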